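import Groth.Agent.L01.FlatCx.Local
import Mathlib.Algebra.Category.ModuleCat.ChangeOfRings
import Mathlib.LinearAlgebra.TensorProduct.Tower
import Mathlib.LinearAlgebra.Dimension.Constructions
import Mathlib.RingTheory.Flat.Stability

/-!
Base change of complexes: cokernels and homology.
-/

set_option autoImplicit false
universe u

open CategoryTheory CategoryTheory.Limits MonoidalCategory
open scoped TensorProduct
open Groth.L28

namespace Groth.L01.FlatCx

variable {A : Type u} [CommRing A] (B : Type u) [CommRing B] [Algebra A B]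

/-- the scalars of `extendScalars`, compared with the algebra structure -/
noncomputable def idE : ((ModuleCat.restrictScalars (algebraMap A B)).obj (ModuleCat.of B B)) ≃ₗ[A] B where
  toFun z := z
  invFun z := z
  map_add' _ _ := rfl
  map_smul' a z := (Algebra.smul_def a (show B from z)).symm
  left_inv _ := rfl
  right_inv _ := rfl

/-- the additive comparison -/
noncomputable def bcAdd (M : ModuleCat.{u} A) :
    ((ModuleCat.extendScalars (algebraMap A B)).obj M) ≃+ B ⊗[A] M :=
  (TensorProduct.congr (idE B) (LinearEquiv.refl A M)).toAddEquiv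

theorem bcAdd_smul (M : ModuleCat.{u} A) (b : B)
    (z : (ModuleCat.extendScalars (algebraMap A B)).obj M) :
    bcAdd B M (b • z) = b • bcAdd B M z := by
  induction z using TensorProduct.induction_on with
  | zero =>
    exact (congrArg (bcAdd B M)
        (smul_zero (A := ((ModuleCat.extendScalars (algebraMap A B)).obj M)) b)).trans
      ((map_zero (bcAdd B M)).trans
        ((smul_zero b).symm.trans (congrArg (b • ·) (map_zero (bcAdd B M)).symm)))
  | tmul x y => rfl
  | add x y hx hy =>
    let x' : (ModuleCat.extendScalars (algebraMap A B)).obj M := x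
    let y' : (ModuleCat.extendScalars (algebraMap A B)).obj M := y
    change bcAdd B M (b • (x' + y')) = b • bcAdd B M (x' + y')
    rw [smul_add, map_add, map_add, smul_add]
    exact congrArg₂ (· + ·) hx hy

/-- `extendScalars` computes the base change -/
noncomputable def bcE (M : ModuleCat.{u} A) :
    ((ModuleCat.extendScalars (algebraMap A B)).obj M) ≃ₗ[B] B ⊗[A] M :=
  { bcAdd B M with map_smul' := bcAdd_smul B M }

theorem bcE_map {M N : ModuleCat.{u} A} (f : M ⟶ N)
    (z : (ModuleCat.extendScalars (algebraMap A B)).obj M) :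
    bcE B N (((ModuleCat.extendScalars (algebraMap A B)).map f).hom z) =
      f.hom.baseChange B (bcE B M z) := by
  induction z using TensorProduct.induction_on with
  | zero =>
    let o : (ModuleCat.extendScalars (algebraMap A B)).obj M := 0
    change bcE B N (((ModuleCat.extendScalars (algebraMap A B)).map f).hom o) =
      f.hom.baseChange B (bcE B M o)
    simp only [o, map_zero]
  | tmul a b => rfl
  | add a b ha hb =>
    let a' : (ModuleCat.extendScalars (algebraMap A B)).obj M := a
    let b' : (ModuleCat.extendScalars (algebraMap A B)).obj M := b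
    change bcE B N (((ModuleCat.extendScalars (algebraMap A B)).map f).hom (a' + b')) =
      f.hom.baseChange B (bcE B M (a' + b'))
    rw [map_add, map_add, map_add, map_add]
    exact congrArg₂ (· + ·) ha hb

variable {ι : Type} {c : ComplexShape ι}

section plain

variable {R : Type u} [CommRing R] (K : HomologicalComplex (ModuleCat.{u} R) c)

/-- Cycles as a kernel. -/
noncomputable abbrev Cyc' (j : ι) : Submodule R (K.X j) := LinearMap.ker (dd K j (c.next j))

lemma exists_cycle' (j : ι) (x : Cyc' K j) : ∃ z : K.cycles j, K.iCycles j z = x.1 :=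
  HomElt.exists_cycle (K := K) rfl x.1 x.2

/-- The class of a cycle. -/
noncomputable def cls' (j : ι) : Cyc' K j →ₗ[R] K.homology j where
  toFun x := K.homologyπ j (exists_cycle' K j x).choose
  map_add' x y := by
    rw [← map_add]
    refine congrArg (K.homologyπ j).hom (HomElt.iCycles_injective K j ?_)
    rw [map_add, (exists_cycle' K j (x + y)).choose_spec, (exists_cycle' K j x).choose_spec,
      (exists_cycle' K j y).choose_spec]
    rfl
  map_smul' a x := by
    rw [RingHom.id_apply, ← map_smul]
    refine congrArg (K.homologyπ j).hom (HomElt.iCycles_injective K j ?_)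
    rw [map_smul, (exists_cycle' K j (a • x)).choose_spec, (exists_cycle' K j x).choose_spec]
    rfl

theorem cls'_surjective (j : ι) : Function.Surjective (cls' K j) := by
  intro h
  obtain ⟨z, rfl⟩ := HomElt.homologyπ_surjective K j h
  refine ⟨⟨K.iCycles j z, HomElt.d_iCycles (K := K) j _ z⟩, ?_⟩
  exact congrArg (K.homologyπ j).hom (HomElt.iCycles_injective K j (exists_cycle' K j _).choose_spec)

theorem cls'_eq_zero_iff {i j : ι} (hi : c.prev j = i) (x : Cyc' K j) :
    cls' K j x = 0 ↔ ∃ y : K.X i, dd K i j y = x.1 := by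
  show K.homologyπ j (exists_cycle' K j x).choose = 0 ↔ _
  rw [HomElt.π_eq_zero_iff hi, (exists_cycle' K j x).choose_spec]

end plain

variable (P : HomologicalComplex (ModuleCat.{u} A) c)

/-- The base change `CohIII.bcCx`. -/
noncomputable abbrev bc : HomologicalComplex (ModuleCat.{u} B) c := CohIII.bcCx (algebraMap A B) P

theorem bcE_dd (i j : ι) (z : (bc B P).X i) :
    bcE B (P.X j) (dd (bc B P) i j z) = (dd P i j).baseChange B (bcE B (P.X i) z) :=
  bcE_map B (P.d i j) z

/-- `B ⊗ P_i` as a term of `P ⊗ B`. -/
noncomputable def sw (i : ι) : (bc B P).X i ≃+ (P.X i ⊗[A] B) :=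
  (bcE B (P.X i)).toAddEquiv.trans (TensorProduct.comm A B (P.X i)).toAddEquiv

theorem sw_dd (i j : ι) (z : (bc B P).X i) :
    sw B P j (dd (bc B P) i j z) = (dd P i j).rTensor B (sw B P i z) := by
  show TensorProduct.comm A B (P.X j) (bcE B (P.X j) (dd (bc B P) i j z)) =
    (dd P i j).rTensor B (TensorProduct.comm A B (P.X i) (bcE B (P.X i) z))
  rw [bcE_dd]
  exact (LinearMap.congr_fun (LinearMap.rTensor_comp_comm (dd P i j)) _).symm.trans rfl

theorem sw_smul (i : ι) (b : B) (z : (bc B P).X i) :
    sw B P i (b • z) = (LinearMap.mulLeft A b).lTensor (P.X i) (sw B P i z) := by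
  show TensorProduct.comm A B (P.X i) (bcE B (P.X i) (b • z)) =
    (LinearMap.mulLeft A b).lTensor (P.X i) (TensorProduct.comm A B (P.X i) (bcE B (P.X i) z))
  rw [show bcE B (P.X i) (b • z) = b • bcE B (P.X i) z from map_smul (bcE B (P.X i)).toLinearMap b z]
  induction (bcE B (P.X i) z) using TensorProduct.induction_on with
  | zero => simp
  | tmul x y => simp [TensorProduct.smul_tmul']
  | add x y hx hy => simp only [smul_add, map_add, hx, hy]

/-- Cokernels commute with base change. -/
theorem nonempty_coker_bc (i j : ι) :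
    Nonempty (Coker (bc B P) i j ≃ₗ[B] B ⊗[A] Coker P i j) := by
  let g : (bc B P).X j →ₗ[B] B ⊗[A] Coker P i j :=
    (LinearMap.range (dd P i j)).mkQ.baseChange B ∘ₗ (bcE B (P.X j)).toLinearMap
  have hg : Function.Surjective g := by
    have h1 : Function.Surjective ((LinearMap.range (dd P i j)).mkQ.baseChange B) := by
      rw [LinearMap.baseChange_eq_ltensor]
      exact LinearMap.lTensor_surjective B (Submodule.mkQ_surjective _)
    exact h1.comp (bcE B (P.X j)).surjective
  have hex : Function.Exact ((dd P i j).baseChange B) ((LinearMap.range (dd P i j)).mkQ.baseChange B) := by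
    rw [LinearMap.baseChange_eq_ltensor, LinearMap.baseChange_eq_ltensor]
    exact lTensor_exact B (exact_coker P i j) (Submodule.mkQ_surjective _)
  have hker : LinearMap.range (dd (bc B P) i j) = LinearMap.ker g := by
    ext z
    constructor
    · rintro ⟨y, rfl⟩
      show (LinearMap.range (dd P i j)).mkQ.baseChange B (bcE B (P.X j) (dd (bc B P) i j y)) = 0
      rw [bcE_dd]
      exact (hex _).mpr ⟨_, rfl⟩
    · intro hz
      obtain ⟨y, hy⟩ := (hex _).mp hz
      refine ⟨(bcE B (P.X i)).symm y, (bcE B (P.X j)).injective ?_⟩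
      exact ((bcE_dd B P i j ((bcE B (P.X i)).symm y)).trans
        (congrArg _ ((bcE B (P.X i)).apply_symm_apply y))).trans hy
  exact ⟨(Submodule.quotEquivOfEq _ _ hker).trans (g.quotKerEquivOfSurjective hg)⟩

theorem flat_bc (hP : ∀ i, Module.Flat A (P.X i)) (i : ι) : Module.Flat B ((bc B P).X i) :=
  have := hP i
  Module.Flat.of_linearEquiv (bcE B (P.X i))

theorem finite_bc (i : ι) [Module.Finite A (P.X i)] : Module.Finite B ((bc B P).X i) :=
  Module.Finite.equiv (bcE B (P.X i)).symm

/-- At a flat module the comparison is bijective. -/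
theorem bijective_tMap_of_flat (j : ι) (M : ModuleCat.{u} A) [Module.Flat A M] :
    Function.Bijective (tMap (CohIII.TFun P j) M) := by
  have hrid : ∀ (i' j' : ι) (z : P.X i' ⊗[A] A), TensorProduct.rid A (P.X j')
      ((dd P i' j').rTensor A z) = dd P i' j' (TensorProduct.rid A (P.X i') z) := fun i' j' z => by
    induction z using TensorProduct.induction_on with
    | zero => simp
    | tmul x a => simp
    | add a b ha hb => simp only [map_add, ha, hb]
  let ρ : Cyc' P j →ₗ[A] Cyc P j (ModuleCat.of A A) :=
    ((TensorProduct.rid A (P.X j)).symm.toLinearMap ∘ₗ (Cyc' P j).subtype).codRestrict _ fun x => by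
      show (dd P j (c.next j)).rTensor A _ = 0
      refine (TensorProduct.rid A (P.X (c.next j))).injective ?_
      rw [hrid, map_zero]
      simpa using x.2
  have hρ : Function.Surjective (cls P j (ModuleCat.of A A) ∘ₗ ρ) := by
    intro a
    obtain ⟨x, rfl⟩ := cls_surjective P j _ a
    refine ⟨⟨TensorProduct.rid A (P.X j) x.1, ?_⟩,
      congrArg (cls P j (ModuleCat.of A A)) (Subtype.ext ?_)⟩
    · show dd P j (c.next j) (TensorProduct.rid A (P.X j) x.1) = 0
      rw [← hrid, x.2, map_zero]
    · exact (TensorProduct.rid A (P.X j)).symm_apply_apply x.1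
  let μ : Cyc' P j ⊗[A] M →ₗ[A] Cyc P j M :=
    ((Cyc' P j).subtype.rTensor M).codRestrict _ fun z => by
      show (dd P j (c.next j)).rTensor M _ = 0
      rw [← LinearMap.comp_apply, ← LinearMap.rTensor_comp,
        show dd P j (c.next j) ∘ₗ (Cyc' P j).subtype = 0 from LinearMap.ext fun x => x.2,
        LinearMap.rTensor_zero]
      rfl
  have hμ : ∀ z, tMap (CohIII.TFun P j) M ((cls P j (ModuleCat.of A A) ∘ₗ ρ).rTensor M z) =
      cls P j M (μ z) := by
    intro z
    induction z using TensorProduct.induction_on with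
    | zero => simp
    | tmul x m =>
      rw [LinearMap.rTensor_tmul, tMap_tmul, LinearMap.comp_apply, map_cls]
      refine congrArg _ (Subtype.ext ?_)
      show (LinearMap.toSpanSingleton A M m).lTensor (P.X j) (x.1 ⊗ₜ[A] (1 : A)) = x.1 ⊗ₜ[A] m
      simp
    | add a b ha hb => simp only [map_add, ha, hb]
  have hex : Function.Exact (Cyc' P j).subtype (dd P j (c.next j)) :=
    LinearMap.exact_iff.mpr (Submodule.range_subtype _).symm
  refine ⟨(injective_iff_map_eq_zero _).mpr fun a ha => ?_, fun a => ?_⟩
  · obtain ⟨z, rfl⟩ := LinearMap.rTensor_surjective M hρ a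
    rw [hμ, cls_eq_zero_iff P (i := c.prev j) rfl] at ha
    obtain ⟨y, hy⟩ := ha
    let d' : (P.X (c.prev j) : Type u) →ₗ[A] Cyc' P j :=
      (dd P (c.prev j) j).codRestrict _ fun v => dd_dd P _ _ _ v
    have hz : z = d'.rTensor M y := by
      refine Module.Flat.rTensor_preserves_injective_linearMap (M := M) (Cyc' P j).subtype
        (Submodule.injective_subtype _) ?_
      rw [← LinearMap.comp_apply, ← LinearMap.rTensor_comp,
        show (Cyc' P j).subtype ∘ₗ d' = dd P (c.prev j) j from rfl, hy]
      rfl
    rw [hz, ← LinearMap.comp_apply, ← LinearMap.rTensor_comp,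
      show (cls P j (ModuleCat.of A A) ∘ₗ ρ) ∘ₗ d' = 0 from LinearMap.ext fun v => by
        show cls P j (ModuleCat.of A A) (ρ (d' v)) = 0
        rw [cls_eq_zero_iff P (i := c.prev j) rfl]
        exact ⟨v ⊗ₜ[A] (1 : A), rfl⟩,
      LinearMap.rTensor_zero]
    rfl
  · obtain ⟨x, rfl⟩ := cls_surjective P j M a
    obtain ⟨z, hz⟩ := ((Module.Flat.rTensor_exact M hex) _).mp x.2
    exact ⟨_, (hμ z).trans (congrArg _ (Subtype.ext hz))⟩

/-- Homology after base change, when the comparison is bijective at `B`. -/
theorem nonempty_homology_bc (j : ι)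
    (h : Function.Bijective (tMap (CohIII.TFun P j) (ModuleCat.of A B))) :
    Nonempty (((bc B P).homology j : Type u) ≃ₗ[B]
      B ⊗[A] ((CohIII.TFun P j).obj (ModuleCat.of A A) : Type u)) := by
  let K := bc B P
  let t := LinearEquiv.ofBijective _ h
  have hmem : ∀ z : Cyc' K j, sw B P j z.1 ∈ Cyc P j (ModuleCat.of A B) := fun z => by
    show (dd P j (c.next j)).rTensor B _ = 0
    rw [← sw_dd, show dd K j (c.next j) z.1 = 0 from z.2, map_zero]
  let φ : Cyc' K j →ₗ[B] B ⊗[A] ((CohIII.TFun P j).obj (ModuleCat.of A A) : Type u) :=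
    { toFun := fun z => TensorProduct.comm A _ B (t.symm (cls P j _ ⟨sw B P j z.1, hmem z⟩))
      map_add' := fun z w => by
        rw [show (⟨sw B P j (z + w).1, hmem _⟩ : Cyc P j (ModuleCat.of A B)) =
          ⟨sw B P j z.1, hmem z⟩ + ⟨sw B P j w.1, hmem w⟩ from Subtype.ext (map_add _ _ _),
          map_add, map_add, map_add]
      map_smul' := fun b z => by
        have h1 : cls P j _ ⟨sw B P j (b • z).1, hmem _⟩ = ((CohIII.TFun P j).map
            (ModuleCat.ofHom (LinearMap.mulLeft A b) : ModuleCat.of A B ⟶ ModuleCat.of A B)).hom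
            (cls P j _ ⟨sw B P j z.1, hmem z⟩) := by
          rw [map_cls]
          exact congrArg _ (Subtype.ext (sw_smul B P j b z.1))
        have h2 : ∀ w, t.symm (((CohIII.TFun P j).map
            (ModuleCat.ofHom (LinearMap.mulLeft A b) : ModuleCat.of A B ⟶ ModuleCat.of A B)).hom (t w))
            = (LinearMap.mulLeft A b).lTensor _ w := fun w => by
          rw [LinearEquiv.symm_apply_eq]
          exact tMap_natural _ _ w
        have h3 := h2 (t.symm (cls P j _ ⟨sw B P j z.1, hmem z⟩))
        rw [LinearEquiv.apply_symm_apply] at h3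
        rw [h1, h3, RingHom.id_apply]
        generalize t.symm (cls P j _ ⟨sw B P j z.1, hmem z⟩) = w
        induction w using TensorProduct.induction_on with
        | zero => simp
        | tmul x y => simp [TensorProduct.smul_tmul']
        | add x y hx hy => simp only [map_add, smul_add, hx, hy] }
  have hker : LinearMap.ker φ = LinearMap.ker (cls' K j) := by
    ext z
    show TensorProduct.comm A _ B (t.symm _) = 0 ↔ cls' K j z = 0
    rw [LinearEquiv.map_eq_zero_iff, LinearEquiv.map_eq_zero_iff,
      cls_eq_zero_iff P (i := c.prev j) rfl, cls'_eq_zero_iff K (i := c.prev j) rfl]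
    constructor
    · rintro ⟨y, hy⟩
      refine ⟨(sw B P (c.prev j)).symm y, (sw B P j).injective ?_⟩
      rw [sw_dd, AddEquiv.apply_symm_apply]
      exact hy
    · rintro ⟨y, hy⟩
      exact ⟨sw B P (c.prev j) y, (sw_dd B P (c.prev j) j y).symm.trans (congrArg _ hy)⟩
  have hφ : Function.Surjective φ := fun w => by
    obtain ⟨x, hx⟩ := cls_surjective P j (ModuleCat.of A B) (t ((TensorProduct.comm A _ B).symm w))
    have hz : (sw B P j).symm x.1 ∈ Cyc' K j := (sw B P (c.next j)).injective (by
      rw [sw_dd, AddEquiv.apply_symm_apply, map_zero]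
      exact x.2)
    refine ⟨⟨_, hz⟩, ?_⟩
    show TensorProduct.comm A _ B (t.symm (cls P j _ ⟨_, _⟩)) = w
    rw [show (⟨sw B P j ((sw B P j).symm x.1), hmem ⟨_, hz⟩⟩ : Cyc P j (ModuleCat.of A B)) = x from
      Subtype.ext ((sw B P j).apply_symm_apply _), hx, LinearEquiv.symm_apply_apply,
      LinearEquiv.apply_symm_apply]
  exact ⟨((cls' K j).quotKerEquivOfSurjective (cls'_surjective K j)).symm.trans
    ((Submodule.quotEquivOfEq _ _ hker.symm).trans (φ.quotKerEquivOfSurjective hφ))⟩

end Groth.L01.FlatCx
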