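import Groth.Prelude.Def_ega3
import Groth.Agent.L28.HomElt
import Mathlib.RingTheory.Flat.Basic
import Mathlib.RingTheory.Flat.Tensor
import Mathlib.LinearAlgebra.TensorProduct.RightExactness

/-!
The homological functors `M ↦ H_j(P ⊗ M)` of complexes of flat modules, on elements.
-/

set_option autoImplicit false
universe u

open CategoryTheory CategoryTheory.Limits MonoidalCategory
open scoped TensorProduct
open Groth.L28

namespace Groth.L01.FlatCx

variable {A : Type u} [CommRing A] {ι : Type} {c : ComplexShape ι}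
  (P : HomologicalComplex (ModuleCat.{u} A) c)

/-- The differential, as a linear map. -/
abbrev dd (i j : ι) : (P.X i : Type u) →ₗ[A] P.X j := (P.d i j).hom

lemma dd_dd (i j k : ι) (x : P.X i) : dd P j k (dd P i j x) = 0 := by
  show ((P.d i j ≫ P.d j k).hom) x = 0
  rw [P.d_comp_d]
  rfl

lemma dd_rTensor_dd (M : Type u) [AddCommGroup M] [Module A M] (i j k : ι) (x : P.X i ⊗[A] M) :
    (dd P j k).rTensor M ((dd P i j).rTensor M x) = 0 := by
  rw [← LinearMap.comp_apply, ← LinearMap.rTensor_comp,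
    show dd P j k ∘ₗ dd P i j = 0 from LinearMap.ext (dd_dd P i j k), LinearMap.rTensor_zero]
  rfl

lemma lTensor_rTensor {X Y M N : Type u} [AddCommGroup X] [Module A X] [AddCommGroup Y] [Module A Y]
    [AddCommGroup M] [Module A M] [AddCommGroup N] [Module A N] (f : X →ₗ[A] Y) (g : M →ₗ[A] N)
    (x : X ⊗[A] M) : g.lTensor Y (f.rTensor M x) = f.rTensor N (g.lTensor X x) := by
  rw [← LinearMap.comp_apply, LinearMap.lTensor_comp_rTensor, ← LinearMap.rTensor_comp_lTensor]
  rfl

/-- Cycles of `P ⊗ M`. -/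
noncomputable abbrev Cyc (j : ι) (M : ModuleCat.{u} A) : Submodule A (P.X j ⊗[A] M) :=
  LinearMap.ker ((dd P j (c.next j)).rTensor M)

lemma exists_cycle (j : ι) (M : ModuleCat.{u} A) (x : Cyc P j M) :
    ∃ z : (CohIII.tensorObj P M).cycles j, (CohIII.tensorObj P M).iCycles j z = x.1 :=
  HomElt.exists_cycle (K := CohIII.tensorObj P M) rfl x.1 x.2

/-- The class of a cycle. -/
noncomputable def cls (j : ι) (M : ModuleCat.{u} A) : Cyc P j M →ₗ[A] (CohIII.TFun P j).obj M where
  toFun x := (CohIII.tensorObj P M).homologyπ j (exists_cycle P j M x).choose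
  map_add' x y := by
    show _ = ((CohIII.tensorObj P M).homologyπ j (exists_cycle P j M x).choose +
      (CohIII.tensorObj P M).homologyπ j (exists_cycle P j M y).choose : CohIII.T P j M)
    rw [← map_add]
    refine congrArg _ (HomElt.iCycles_injective _ j ?_)
    rw [map_add, (exists_cycle P j M (x + y)).choose_spec, (exists_cycle P j M x).choose_spec,
      (exists_cycle P j M y).choose_spec]
    rfl
  map_smul' a x := by
    show _ = (a • (CohIII.tensorObj P M).homologyπ j (exists_cycle P j M x).choose : CohIII.T P j M)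
    rw [← map_smul]
    refine congrArg _ (HomElt.iCycles_injective _ j ?_)
    rw [map_smul, (exists_cycle P j M (a • x)).choose_spec, (exists_cycle P j M x).choose_spec]
    rfl

lemma cls_eq (j : ι) (M : ModuleCat.{u} A) (x : Cyc P j M)
    (z : (CohIII.tensorObj P M).cycles j) (h : (CohIII.tensorObj P M).iCycles j z = x.1) :
    cls P j M x = (CohIII.tensorObj P M).homologyπ j z :=
  congrArg ((CohIII.tensorObj P M).homologyπ j).hom
    (HomElt.iCycles_injective _ j ((exists_cycle P j M x).choose_spec.trans h.symm))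

theorem cls_surjective (j : ι) (M : ModuleCat.{u} A) : Function.Surjective (cls P j M) := by
  intro h
  obtain ⟨z, rfl⟩ := HomElt.homologyπ_surjective (CohIII.tensorObj P M) j h
  exact ⟨⟨(CohIII.tensorObj P M).iCycles j z, HomElt.d_iCycles (K := CohIII.tensorObj P M) j _ z⟩,
    cls_eq P j M _ z rfl⟩

theorem cls_eq_zero_iff {i j : ι} (hi : c.prev j = i) (M : ModuleCat.{u} A) (x : Cyc P j M) :
    cls P j M x = 0 ↔ ∃ y : P.X i ⊗[A] M, (dd P i j).rTensor M y = x.1 := by
  show (CohIII.tensorObj P M).homologyπ j (exists_cycle P j M x).choose = 0 ↔ _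
  rw [HomElt.π_eq_zero_iff hi, (exists_cycle P j M x).choose_spec]
  rfl

/-- The image of a cycle. -/
noncomputable def cycMap (j : ι) {M N : ModuleCat.{u} A} (g : M ⟶ N) : Cyc P j M →ₗ[A] Cyc P j N :=
  (g.hom.lTensor (P.X j)).restrict fun x (hx : (dd P j (c.next j)).rTensor M x = 0) => by
    show (dd P j (c.next j)).rTensor N (g.hom.lTensor (P.X j) x) = 0
    rw [← lTensor_rTensor, hx, map_zero]

@[simp] lemma cycMap_coe (j : ι) {M N : ModuleCat.{u} A} (g : M ⟶ N) (x : Cyc P j M) :
    (cycMap P j g x).1 = g.hom.lTensor (P.X j) x.1 := rfl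

theorem map_cls (j : ι) {M N : ModuleCat.{u} A} (g : M ⟶ N) (x : Cyc P j M) :
    ((CohIII.TFun P j).map g).hom (cls P j M x) = cls P j N (cycMap P j g x) := by
  show HomologicalComplex.homologyMap (CohIII.tensorMap P g) j
    ((CohIII.tensorObj P M).homologyπ j (exists_cycle P j M x).choose) = _
  rw [HomElt.homologyMap_π]
  refine (cls_eq P j N _ _ ?_).symm
  rw [HomElt.iCycles_cyclesMap, (exists_cycle P j M x).choose_spec]
  rfl

instance TFun_additive (j : ι) : (CohIII.TFun P j).Additive where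
  map_add {M N f g} := by
    ext h
    obtain ⟨x, rfl⟩ := cls_surjective P j M h
    rw [ModuleCat.hom_add, LinearMap.add_apply, map_cls, map_cls, map_cls, ← map_add]
    refine congrArg _ (Subtype.ext ?_)
    simp only [Submodule.coe_add, cycMap_coe, ModuleCat.hom_add, LinearMap.lTensor_add,
      LinearMap.add_apply]

instance TFun_linear (j : ι) : (CohIII.TFun P j).Linear A where
  map_smul {M N} f a := by
    ext h
    obtain ⟨x, rfl⟩ := cls_surjective P j M h
    rw [ModuleCat.hom_smul, LinearMap.smul_apply, map_cls, map_cls, ← map_smul]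
    refine congrArg _ (Subtype.ext ?_)
    simp only [SetLike.val_smul, cycMap_coe, ModuleCat.hom_smul, LinearMap.lTensor_smul,
      LinearMap.smul_apply]

/-- `P_j / im(P_i → P_j)`. -/
abbrev Coker (i j : ι) : Type u := (P.X j : Type u) ⧸ LinearMap.range (dd P i j)

lemma exact_coker (i j : ι) : Function.Exact (dd P i j) (LinearMap.range (dd P i j)).mkQ :=
  LinearMap.exact_iff.mpr (Submodule.ker_mkQ _)

lemma coker_rTensor_exact (M : Type u) [AddCommGroup M] [Module A M] (i j : ι) :
    Function.Exact ((dd P i j).rTensor M) ((LinearMap.range (dd P i j)).mkQ.rTensor M) :=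
  rTensor_exact M (exact_coker P i j) (Submodule.mkQ_surjective _)

lemma coker_rTensor_surjective (M : Type u) [AddCommGroup M] [Module A M] (i j : ι) :
    Function.Surjective ((LinearMap.range (dd P i j)).mkQ.rTensor M) :=
  LinearMap.rTensor_surjective M (Submodule.mkQ_surjective _)

/-- Half exactness. -/
theorem map_exact (j : ι) (hP : ∀ i, Module.Flat A (P.X i)) (S : ShortComplex (ModuleCat.{u} A))
    (hS : S.ShortExact) : (S.map (CohIII.TFun P j)).Exact := by
  rw [ShortComplex.moduleCat_exact_iff]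
  intro h (hh : ((CohIII.TFun P j).map S.g).hom h = 0)
  obtain ⟨x, rfl⟩ := cls_surjective P j S.X₂ h
  rw [map_cls, cls_eq_zero_iff P (i := c.prev j) rfl] at hh
  obtain ⟨y, hy⟩ := hh
  rw [cycMap_coe] at hy
  have hex : Function.Exact S.f.hom S.g.hom := fun x =>
    ⟨fun hx => (ShortComplex.moduleCat_exact_iff S).mp hS.exact x hx, fun ⟨w, hw⟩ => by
      rw [← hw]; exact LinearMap.congr_fun (ModuleCat.hom_ext_iff.mp S.zero) w⟩
  have hsurj : Function.Surjective S.g.hom := (ModuleCat.epi_iff_surjective S.g).mp hS.epi_g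
  have hinj : Function.Injective S.f.hom := (ModuleCat.mono_iff_injective S.f).mp hS.mono_f
  obtain ⟨y', rfl⟩ := LinearMap.lTensor_surjective (P.X (c.prev j)) hsurj y
  obtain ⟨k, hk⟩ : x.1 - (dd P (c.prev j) j).rTensor _ y' ∈ Set.range (S.f.hom.lTensor (P.X j)) :=
    ((lTensor_exact (P.X j) hex hsurj) _).mp (by
      rw [map_sub, lTensor_rTensor, hy, sub_self])
  have := hP (c.next j)
  have hk0 : k ∈ Cyc P j S.X₁ := by
    refine Module.Flat.lTensor_preserves_injective_linearMap S.f.hom hinj ?_
    rw [map_zero, lTensor_rTensor, hk, map_sub, dd_rTensor_dd, sub_zero]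
    exact x.2
  refine ⟨cls P j S.X₁ ⟨k, hk0⟩, ?_⟩
  show ((CohIII.TFun P j).map S.f).hom (cls P j S.X₁ ⟨k, hk0⟩) = _
  rw [map_cls, ← sub_eq_zero, ← map_sub, cls_eq_zero_iff P (i := c.prev j) rfl]
  refine ⟨-y', ?_⟩
  rw [map_neg, Submodule.coe_sub, cycMap_coe, hk]
  abel

/-- Injectivity on the left is flatness of the cokernel. -/
theorem preservesMono_iff {i j : ι} (hi : c.prev j = i) (hP : ∀ i, Module.Flat A (P.X i)) :
    (CohIII.TFun P j).PreservesMonomorphisms ↔ Module.Flat A (Coker P i j) := by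
  constructor
  · intro h
    refine Module.Flat.iff_lTensor_preserves_injective_linearMap.mpr fun M N _ _ _ _ f hf => ?_
    rw [injective_iff_map_eq_zero]
    intro z hz
    obtain ⟨x, rfl⟩ := coker_rTensor_surjective P M i j z
    rw [lTensor_rTensor] at hz
    obtain ⟨y, hy⟩ := ((coker_rTensor_exact P N i j) _).mp hz
    have := hP (c.next j)
    have hx : x ∈ Cyc P j (ModuleCat.of A M) := by
      refine Module.Flat.lTensor_preserves_injective_linearMap f hf ?_
      rw [map_zero, lTensor_rTensor, ← hy, dd_rTensor_dd]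
    have hmono : Mono (ModuleCat.ofHom f) := (ModuleCat.mono_iff_injective _).mpr hf
    have hinj := (ModuleCat.mono_iff_injective _).mp
      (Functor.map_mono (CohIII.TFun P j) (ModuleCat.ofHom f))
    have h0 : cls P j (ModuleCat.of A M) ⟨x, hx⟩ = 0 := hinj (by
      rw [map_zero]
      refine (map_cls P j (ModuleCat.ofHom f) ⟨x, hx⟩).trans ?_
      rw [cls_eq_zero_iff P hi]
      exact ⟨y, hy⟩)
    obtain ⟨w, hw⟩ := (cls_eq_zero_iff P hi _ _).mp h0
    exact ((coker_rTensor_exact P M i j) _).mpr ⟨w, hw⟩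
  · intro h
    refine ⟨fun {M N} g hg => (ModuleCat.mono_iff_injective _).mpr ?_⟩
    refine (injective_iff_map_eq_zero _).mpr fun a (ha : ((CohIII.TFun P j).map g).hom a = 0) => ?_
    obtain ⟨x, rfl⟩ := cls_surjective P j M a
    rw [map_cls, cls_eq_zero_iff P hi] at ha
    obtain ⟨y, hy⟩ := ha
    rw [cls_eq_zero_iff P hi]
    refine ((coker_rTensor_exact P M i j) _).mp ?_
    refine Module.Flat.lTensor_preserves_injective_linearMap g.hom
      ((ModuleCat.mono_iff_injective g).mp hg) ?_
    rw [map_zero, lTensor_rTensor]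
    exact ((coker_rTensor_exact P _ i j) _).mpr ⟨y, hy⟩

/-- The connecting step of the long exact sequence: surjectivity from injectivity below. -/
theorem surjective_of_injective {j k : ι} (hk : c.next j = k) (hkj : c.prev k = j)
    (hP : ∀ i, Module.Flat A (P.X i)) {M₁ M₂ M₃ : ModuleCat.{u} A} (f : M₁ ⟶ M₂) (g : M₂ ⟶ M₃)
    (hf : Function.Injective f.hom) (hg : Function.Surjective g.hom) (hfg : Function.Exact f.hom g.hom)
    (h : Function.Injective ((CohIII.TFun P k).map f).hom) :
    Function.Surjective ((CohIII.TFun P j).map g).hom := by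
  intro a
  obtain ⟨x, rfl⟩ := cls_surjective P j M₃ a
  obtain ⟨x', hx'⟩ := LinearMap.lTensor_surjective (P.X j) hg x.1
  obtain ⟨u, hu⟩ : (dd P j k).rTensor M₂ x' ∈ Set.range (f.hom.lTensor (P.X k)) :=
    ((lTensor_exact (P.X k) hfg hg) _).mp (by
      rw [lTensor_rTensor, hx', ← hk]; exact x.2)
  have := hP (c.next k)
  have hu0 : u ∈ Cyc P k M₁ := by
    refine Module.Flat.lTensor_preserves_injective_linearMap f.hom hf ?_
    rw [map_zero, lTensor_rTensor, hu, dd_rTensor_dd]
  have h0 : cls P k M₁ ⟨u, hu0⟩ = 0 := h (by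
    rw [map_cls, map_zero, cls_eq_zero_iff P hkj]
    exact ⟨x', hu.symm⟩)
  obtain ⟨w, hw⟩ := (cls_eq_zero_iff P hkj _ _).mp h0
  have hy : x' - f.hom.lTensor (P.X j) w ∈ Cyc P j M₂ := by
    show (dd P j (c.next j)).rTensor M₂ _ = 0
    subst hk
    rw [map_sub, ← lTensor_rTensor, hw, hu, sub_self]
  refine ⟨cls P j M₂ ⟨_, hy⟩, ?_⟩
  rw [map_cls]
  refine congrArg _ (Subtype.ext ?_)
  rw [cycMap_coe, map_sub, hx', sub_eq_self, ← LinearMap.comp_apply, ← LinearMap.lTensor_comp,
    show g.hom ∘ₗ f.hom = 0 from hfg.linearMap_comp_eq_zero, LinearMap.lTensor_zero]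
  rfl

/-- The connecting step of the long exact sequence: injectivity from surjectivity above. -/
theorem injective_of_surjective {j k : ι} (hk : c.next j = k) (hkj : c.prev k = j)
    (hP : ∀ i, Module.Flat A (P.X i)) {M₁ M₂ M₃ : ModuleCat.{u} A} (f : M₁ ⟶ M₂) (g : M₂ ⟶ M₃)
    (hf : Function.Injective f.hom) (hg : Function.Surjective g.hom) (hfg : Function.Exact f.hom g.hom)
    (h : Function.Surjective ((CohIII.TFun P j).map g).hom) :
    Function.Injective ((CohIII.TFun P k).map f).hom := by
  refine (injective_iff_map_eq_zero _).mpr fun a ha => ?_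
  obtain ⟨u, rfl⟩ := cls_surjective P k M₁ a
  rw [map_cls, cls_eq_zero_iff P hkj] at ha
  obtain ⟨y, hy⟩ := ha
  rw [cycMap_coe] at hy
  have hgy : g.hom.lTensor (P.X j) y ∈ Cyc P j M₃ := by
    show (dd P j (c.next j)).rTensor M₃ _ = 0
    subst hk
    rw [← lTensor_rTensor, hy, ← LinearMap.comp_apply, ← LinearMap.lTensor_comp,
      show g.hom ∘ₗ f.hom = 0 from hfg.linearMap_comp_eq_zero, LinearMap.lTensor_zero]
    rfl
  obtain ⟨b, hb⟩ := h (cls P j M₃ ⟨_, hgy⟩)
  obtain ⟨z, rfl⟩ := cls_surjective P j M₂ b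
  rw [map_cls, ← sub_eq_zero, ← map_sub, cls_eq_zero_iff P (i := c.prev j) rfl] at hb
  obtain ⟨w, hw⟩ := hb
  rw [Submodule.coe_sub, cycMap_coe] at hw
  obtain ⟨w', rfl⟩ := LinearMap.lTensor_surjective (P.X (c.prev j)) hg w
  obtain ⟨v, hv⟩ : y - z.1 + (dd P (c.prev j) j).rTensor M₂ w' ∈
      Set.range (f.hom.lTensor (P.X j)) :=
    ((lTensor_exact (P.X j) hfg hg) _).mp (by
      rw [map_add, map_sub, lTensor_rTensor, hw]; abel)
  rw [cls_eq_zero_iff P hkj]
  refine ⟨v, ?_⟩
  have := hP k
  refine Module.Flat.lTensor_preserves_injective_linearMap f.hom hf ?_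
  have hz : (dd P j k).rTensor M₂ z.1 = 0 := by subst hk; exact z.2
  rw [lTensor_rTensor, hv, map_add, map_sub, hz, dd_rTensor_dd, sub_zero, add_zero, hy]

/-- Surjectivity in one degree is injectivity in the next. -/
theorem preservesEpi_iff_preservesMono {j k : ι} (hk : c.next j = k) (hkj : c.prev k = j)
    (hP : ∀ i, Module.Flat A (P.X i)) :
    (CohIII.TFun P j).PreservesEpimorphisms ↔ (CohIII.TFun P k).PreservesMonomorphisms := by
  constructor
  · intro h
    refine ⟨fun {M N} f hf => (ModuleCat.mono_iff_injective _).mpr ?_⟩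
    let g : N ⟶ ModuleCat.of A (N ⧸ LinearMap.range f.hom) :=
      ModuleCat.ofHom (LinearMap.range f.hom).mkQ
    have hg : Function.Surjective g.hom := Submodule.mkQ_surjective _
    have hepi : Epi g := (ModuleCat.epi_iff_surjective g).mpr hg
    exact injective_of_surjective P hk hkj hP f g ((ModuleCat.mono_iff_injective f).mp hf) hg
      (LinearMap.exact_iff.mpr (Submodule.ker_mkQ _))
      ((ModuleCat.epi_iff_surjective _).mp (Functor.map_epi (CohIII.TFun P j) g))
  · intro h
    refine ⟨fun {M N} g hg => (ModuleCat.epi_iff_surjective _).mpr ?_⟩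
    let f : ModuleCat.of A (LinearMap.ker g.hom) ⟶ M :=
      ModuleCat.ofHom (LinearMap.ker g.hom).subtype
    have hf : Function.Injective f.hom := Submodule.injective_subtype _
    have hmono : Mono f := (ModuleCat.mono_iff_injective f).mpr hf
    exact surjective_of_injective P hk hkj hP f g hf ((ModuleCat.epi_iff_surjective g).mp hg)
      (LinearMap.exact_iff.mpr (Submodule.range_subtype _).symm)
      ((ModuleCat.mono_iff_injective _).mp (Functor.map_mono (CohIII.TFun P k) f))

/-- Surjectivity on the right is flatness of the cokernel one step down. -/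
theorem preservesEpi_iff {j k : ι} (hk : c.next j = k) (hkj : c.prev k = j)
    (hP : ∀ i, Module.Flat A (P.X i)) :
    (CohIII.TFun P j).PreservesEpimorphisms ↔ Module.Flat A (Coker P j k) :=
  (preservesEpi_iff_preservesMono P hk hkj hP).trans (preservesMono_iff P hkj hP)

/-- `opcycles` is the cokernel. -/
theorem nonempty_opcycles_equiv {i j : ι} (hi : c.prev j = i) :
    Nonempty ((P.opcycles j : Type u) ≃ₗ[A] Coker P i j) := by
  have h := ShortComplex.exact_of_g_is_cokernel
    (ShortComplex.mk (P.d i j) (P.pOpcycles j) (P.d_pOpcycles i j))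
    (P.opcyclesIsCokernel i j hi)
  have hker : LinearMap.range (dd P i j) = LinearMap.ker (P.pOpcycles j).hom := by
    ext x
    refine ⟨?_, fun hx => (ShortComplex.moduleCat_exact_iff _).mp h x hx⟩
    rintro ⟨y, rfl⟩
    exact LinearMap.congr_fun (ModuleCat.hom_ext_iff.mp (P.d_pOpcycles i j)) y
  exact ⟨((Submodule.quotEquivOfEq _ _ hker).trans ((P.pOpcycles j).hom.quotKerEquivOfSurjective
    ((ModuleCat.epi_iff_surjective _).mp inferInstance))).symm⟩

/-- `H(P ⊗ A) ≅ H(P)`. -/
noncomputable def TUnitIso (j : ι) : CohIII.T P j (ModuleCat.of A A) ≅ P.homology j :=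
  (HomologicalComplex.homologyFunctor (ModuleCat.{u} A) c j).mapIso
    (HomologicalComplex.Hom.isoOfComponents
      (fun i => (TensorProduct.rid A (P.X i)).toModuleIso) fun i k _ => by
        ext1
        refine TensorProduct.ext' fun x a => ?_
        show dd P i k (TensorProduct.rid A (P.X i) (x ⊗ₜ a)) =
          TensorProduct.rid A (P.X k) ((dd P i k).rTensor A (x ⊗ₜ a))
        simp)

end Groth.L01.FlatCx
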