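import Groth.Agent.L01.FlatCx.Rank
import Mathlib.RingTheory.Ideal.MinimalPrime.Noetherian
import Mathlib.RingTheory.Localization.FractionRing
import Mathlib.Data.Int.Interval

/-!
Complexes vanishing below some degree.
-/

set_option autoImplicit false
universe u

open CategoryTheory CategoryTheory.Limits MonoidalCategory
open scoped TensorProduct

namespace Groth.L01.FlatCx

variable {A : Type u} [CommRing A] (P : ChainComplex (ModuleCat.{u} A) ℤ)

lemma prev_eq (j : ℤ) : (ComplexShape.down ℤ).prev j = j + 1 := (ComplexShape.down ℤ).prev_eq' rfl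
lemma next_eq (j : ℤ) : (ComplexShape.down ℤ).next j = j - 1 :=
  (ComplexShape.down ℤ).next_eq' (by simp)
lemma prev_pred (j : ℤ) : (ComplexShape.down ℤ).prev (j - 1) = j :=
  (ComplexShape.down ℤ).prev_eq' (by simp)

theorem exact_below {i₀ : ℤ} (hP : ∀ i, Module.Flat A (P.X i)) (hb : ∀ i < i₀, IsZero (P.X i))
    (q : ℤ) (hq : q < i₀) :
    (CohIII.TFun P q).PreservesMonomorphisms ∧ (CohIII.TFun P q).PreservesEpimorphisms := by
  have hlow : ∀ j, j < i₀ → Module.Flat A (Coker P (j + 1) j) := fun j hj => by
    have := ModuleCat.subsingleton_of_isZero (hb j hj)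
    have := (Submodule.mkQ_surjective (LinearMap.range (dd P (j + 1) j))).subsingleton
    infer_instance
  have hm : ∀ j < i₀, (CohIII.TFun P j).PreservesMonomorphisms := fun j hj =>
    (preservesMono_iff P (prev_eq j) hP).mpr (hlow j hj)
  exact ⟨hm q hq, (preservesEpi_iff_preservesMono P (next_eq q) (prev_pred q) hP).mpr (hm _ (by omega))⟩

/-- Exactness up to `p` by induction: right exactness at `q` comes from below. -/
theorem exact_upTo {i₀ : ℤ} (hP : ∀ i, Module.Flat A (P.X i)) (hb : ∀ i < i₀, IsZero (P.X i)) (p : ℤ)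
    (h : ∀ q ≤ p, (CohIII.TFun P q).PreservesEpimorphisms →
      Module.Flat A ((CohIII.TFun P q).obj (ModuleCat.of A A) : Type u)) :
    ∀ q ≤ p, (CohIII.TFun P q).PreservesMonomorphisms ∧ (CohIII.TFun P q).PreservesEpimorphisms := by
  suffices key : ∀ n : ℕ, ∀ q : ℤ, q < i₀ + n → q ≤ p →
      (CohIII.TFun P q).PreservesMonomorphisms ∧ (CohIII.TFun P q).PreservesEpimorphisms from
    fun q => key ((q + 1 - i₀).toNat) q (by omega)
  intro n
  induction n with
  | zero => exact fun q hq _ => exact_below P hP hb q (by simpa using hq)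
  | succ n ih =>
    intro q hq hqp
    have he := (preservesEpi_iff_preservesMono P (next_eq q) (prev_pred q) hP).mpr
      (ih (q - 1) (by omega) (by omega)).1
    exact ⟨(preservesMono_iff_flat_obj P q hP).mpr (h q hqp he), he⟩

/-- Over a domain there is a localization making the complex exact up to `N`. -/
theorem exists_away_exact [IsDomain A] {i₀ : ℤ} (hP : ∀ i, Module.Flat A (P.X i))
    (hb : ∀ i < i₀, IsZero (P.X i))
    (hfp : ∀ n : ℤ, Module.FinitePresentation A ((CohIII.TFun P n).obj (ModuleCat.of A A) : Type u))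
    (N : ℤ) :
    ∃ f : A, f ≠ 0 ∧ ∀ q ≤ N,
      ((CohIII.TFun (bc (Localization.Away f) P) q).PreservesMonomorphisms ∧
        (CohIII.TFun (bc (Localization.Away f) P) q).PreservesEpimorphisms) := by
  let H : ℤ → Type u := fun n => (CohIII.TFun P n).obj (ModuleCat.of A A)
  let η : PrimeSpectrum A := ⟨⊥, Ideal.isPrime_bot⟩
  have hη : η.asIdeal.primeCompl = nonZeroDivisors A := by
    ext a
    simp [η, Ideal.primeCompl, mem_nonZeroDivisors_iff_ne_zero]
  have : IsLocalization.AtPrime (FractionRing A) η.asIdeal := by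
    show IsLocalization η.asIdeal.primeCompl (FractionRing A)
    rw [hη]
    infer_instance
  let U := ⋂ n ∈ Finset.Icc i₀ N, Module.freeLocus A (H n)
  have hU : IsOpen U := isOpen_biInter_finset fun n _ => Module.isOpen_freeLocus
  have hmem : η ∈ U := Set.mem_iInter₂.mpr fun n _ =>
    (Module.mem_freeLocus_iff_tensor η (FractionRing A)).mpr inferInstance
  obtain ⟨_, ⟨f, rfl⟩, hf, hfU⟩ :=
    PrimeSpectrum.isTopologicalBasis_basic_opens.exists_subset_of_mem_open hmem hU
  refine ⟨f, fun h => hf (show f ∈ η.asIdeal from h ▸ η.asIdeal.zero_mem), ?_⟩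
  let B := Localization.Away f
  have hB : Module.Flat A B := IsLocalization.flat B (Submonoid.powers f)
  have hflat := flat_bc B P hP
  have hb' : ∀ i < i₀, IsZero ((bc B P).X i) := fun i hi => by
    have := ModuleCat.subsingleton_of_isZero (hb i hi)
    have : Subsingleton ((bc B P).X i) := (bcE B (P.X i)).toEquiv.subsingleton
    exact ModuleCat.isZero_of_subsingleton _
  refine exact_upTo (bc B P) hflat hb' N fun q hq he => ?_
  by_cases hq₀ : q < i₀
  · have := (exact_below (bc B P) hflat hb' q hq₀).1
    exact flat_homology_of_exact (bc B P) q hflat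
  obtain ⟨e⟩ := nonempty_homology_bc B P q (bijective_tMap_of_flat P q (ModuleCat.of A B))
  have hsub : (PrimeSpectrum.basicOpen f : Set (PrimeSpectrum A)) ⊆ Module.freeLocus A (H q) :=
    hfU.trans (Set.biInter_subset_of_mem (Finset.mem_coe.mpr (Finset.mem_Icc.mpr ⟨by omega, hq⟩)))
  have : Module.Projective B (LocalizedModule.Away f (H q)) :=
    Module.basicOpen_subset_freeLocus_iff.mp hsub
  have : Module.Flat B (LocalizedModule (Submonoid.powers f) (H q)) := Module.Flat.of_projective
  exact Module.Flat.of_linearEquiv ((unitEquiv (bc B P) q).trans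
    (e.trans (LocalizedModule.equivTensorProduct (Submonoid.powers f) (H q)).symm))

/-- Homology of the tensor with a finite module is finite. -/
theorem finite_T_of_bounded [IsNoetherianRing A] {i₀ : ℤ} (hP : ∀ i, Module.Flat A (P.X i))
    (hb : ∀ i < i₀, IsZero (P.X i))
    (hfg : ∀ n : ℤ, Module.Finite A ((CohIII.TFun P n).obj (ModuleCat.of A A) : Type u)) (n : ℤ)
    (M : ModuleCat.{u} A) [Module.Finite A M] :
    Module.Finite A ((CohIII.TFun P n).obj M : Type u) := by
  suffices key : ∀ m : ℕ, ∀ q : ℤ, q < i₀ + m → ∀ (M : ModuleCat.{u} A) [Module.Finite A M],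
      Module.Finite A ((CohIII.TFun P q).obj M : Type u) from
    key ((n + 1 - i₀).toNat) n (by omega) M
  intro m
  induction m with
  | zero =>
    intro q hq M _
    have := ModuleCat.subsingleton_of_isZero (hb q (by simpa using hq))
    exact Module.Finite.of_surjective (cls P q M) (cls_surjective P q M)
  | succ m ih =>
    intro q hq M _
    obtain ⟨r, π, hπ⟩ := Module.Finite.exists_fin' A M
    let F : ModuleCat.{u} A := ModuleCat.of A (Fin r → A)
    let g : F ⟶ M := ModuleCat.ofHom π
    let K : ModuleCat.{u} A := ModuleCat.of A (LinearMap.ker π)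
    let f : K ⟶ F := ModuleCat.ofHom (LinearMap.ker π).subtype
    have hfg' : Function.Exact f.hom g.hom := LinearMap.exact_iff.mpr (Submodule.range_subtype _).symm
    have : Module.Finite A K := inferInstanceAs (Module.Finite A (LinearMap.ker π))
    have hK := ih (q - 1) (by omega) K
    have : Module.Free A F := inferInstanceAs (Module.Free A (Fin r → A))
    have : Module.Finite A F := inferInstanceAs (Module.Finite A (Fin r → A))
    have hF : Module.Finite A ((CohIII.TFun P q).obj F : Type u) :=
      have := hfg q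
      Module.Finite.of_surjective (tMap (CohIII.TFun P q) F) ((gen_TFun P q).bijective_free F).2
    let S : Submodule A ((P.X q ⊗[A] F) × (P.X (q - 1) ⊗[A] K)) :=
      LinearMap.ker ((dd P q (q - 1)).rTensor F ∘ₗ LinearMap.fst A _ _ -
        f.hom.lTensor (P.X (q - 1)) ∘ₗ LinearMap.snd A _ _)
    have hS : ∀ z : S, (dd P q (q - 1)).rTensor F z.1.1 = f.hom.lTensor (P.X (q - 1)) z.1.2 :=
      fun z => sub_eq_zero.mp z.2
    let c1 : S →ₗ[A] Cyc P q M := (g.hom.lTensor (P.X q) ∘ₗ LinearMap.fst A _ _ ∘ₗ S.subtype).codRestrict _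
      fun z => by
        show (dd P q _).rTensor M (g.hom.lTensor (P.X q) z.1.1) = 0
        rw [next_eq q, ← lTensor_rTensor, hS, ← LinearMap.comp_apply, ← LinearMap.lTensor_comp,
          hfg'.linearMap_comp_eq_zero, LinearMap.lTensor_zero]
        rfl
    let c2 : S →ₗ[A] Cyc P (q - 1) K := (LinearMap.snd A _ _ ∘ₗ S.subtype).codRestrict _
      fun z => by
        show (dd P (q - 1) _).rTensor K z.1.2 = 0
        have := hP ((ComplexShape.down ℤ).next (q - 1))
        refine Module.Flat.lTensor_preserves_injective_linearMap f.hom (Submodule.injective_subtype _) ?_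
        rw [map_zero, lTensor_rTensor, ← hS, dd_rTensor_dd]
    let Φ := (cls P q M ∘ₗ c1).prod (cls P (q - 1) K ∘ₗ c2)
    have hfst : Function.Surjective (cls P q M ∘ₗ c1) := by
      intro a
      obtain ⟨x, rfl⟩ := cls_surjective P q M a
      obtain ⟨y, hy⟩ := LinearMap.lTensor_surjective (P.X q) hπ x.1
      obtain ⟨u, hu⟩ : (dd P q (q - 1)).rTensor F y ∈ Set.range (f.hom.lTensor (P.X (q - 1))) :=
        ((lTensor_exact (P.X (q - 1)) hfg' hπ) _).mp (by
          rw [lTensor_rTensor]
          show (dd P q (q - 1)).rTensor M (π.lTensor (P.X q) y) = 0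
          rw [hy, ← next_eq q]
          exact x.2)
      exact ⟨⟨(y, u), sub_eq_zero.mpr hu.symm⟩, congrArg (cls P q M) (Subtype.ext hy)⟩
    have hR : (LinearMap.range Φ).FG := by
      refine Submodule.fg_of_fg_map_of_fg_inf_ker (LinearMap.snd A _ _) (IsNoetherian.noetherian _) ?_
      let L : Submodule A (((CohIII.TFun P q).obj M : Type u) × ((CohIII.TFun P (q - 1)).obj K : Type u)) :=
        (LinearMap.range ((CohIII.TFun P q).map g).hom).map (LinearMap.inl A _ _)
      have hL : L.FG := by
        refine Submodule.FG.map _ ?_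
        rw [LinearMap.range_eq_map]
        exact Module.Finite.fg_top.map _
      have : Module.Finite A L := Module.Finite.iff_fg.mpr hL
      have hle : LinearMap.range Φ ⊓ LinearMap.ker (LinearMap.snd A _ _) ≤ L := by
        rintro _ ⟨⟨z, rfl⟩, hz⟩
        have hz : cls P (q - 1) K (c2 z) = 0 := hz
        obtain ⟨w, hw⟩ := (cls_eq_zero_iff P (prev_pred q) K _).mp hz
        have hw : (dd P q (q - 1)).rTensor K w = z.1.2 := hw
        have hy : z.1.1 - f.hom.lTensor (P.X q) w ∈ Cyc P q F := by
          show (dd P q _).rTensor F _ = 0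
          rw [next_eq q, map_sub, hS, ← lTensor_rTensor, hw, sub_self]
        refine ⟨((CohIII.TFun P q).map g).hom (cls P q F ⟨_, hy⟩), ⟨_, rfl⟩, Prod.ext ?_ ?_⟩
        · show ((CohIII.TFun P q).map g).hom (cls P q F ⟨_, hy⟩) = cls P q M (c1 z)
          rw [map_cls]
          refine congrArg _ (Subtype.ext ?_)
          rw [cycMap_coe, map_sub, ← LinearMap.comp_apply (g.hom.lTensor (P.X q)),
            ← LinearMap.lTensor_comp, hfg'.linearMap_comp_eq_zero, LinearMap.lTensor_zero]
          exact sub_zero _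
        · exact hz.symm
      exact isNoetherian_submodule.mp (inferInstanceAs (IsNoetherian A L)) _ hle
    refine Module.Finite.of_fg_top ?_
    have himg := hR.map (LinearMap.fst A _ _)
    rw [← LinearMap.range_comp, show LinearMap.fst A _ _ ∘ₗ Φ = cls P q M ∘ₗ c1 from rfl,
      LinearMap.range_eq_top.mpr hfst] at himg
    exact himg

/-- Homology of the base change is finite if `T(B)` is. -/
theorem finite_homology_bc {ι : Type} {c : ComplexShape ι} (P : HomologicalComplex (ModuleCat.{u} A) c)
    (B : Type u) [CommRing B] [Algebra A B] (j : ι)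
    [Module.Finite A ((CohIII.TFun P j).obj (ModuleCat.of A B) : Type u)] :
    Module.Finite B ((bc B P).homology j : Type u) := by
  obtain ⟨m, v, hv⟩ := Module.Finite.exists_fin (R := A)
    (M := ((CohIII.TFun P j).obj (ModuleCat.of A B) : Type u))
  choose x hx using fun i => cls_surjective P j (ModuleCat.of A B) (v i)
  have hz : ∀ i, (sw B P j).symm (x i).1 ∈ Cyc' (bc B P) j := fun i => (sw B P (c.next j)).injective (by
    rw [sw_dd, AddEquiv.apply_symm_apply, map_zero]
    exact (x i).2)
  refine Module.Finite.of_fg_top ((Submodule.fg_def).mpr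
    ⟨Set.range fun i => cls' (bc B P) j ⟨_, hz i⟩, Set.finite_range _, ?_⟩)
  refine eq_top_iff.mpr fun a _ => ?_
  obtain ⟨z, rfl⟩ := cls'_surjective (bc B P) j a
  have hzc : sw B P j z.1 ∈ Cyc P j (ModuleCat.of A B) := by
    show (dd P j (c.next j)).rTensor B _ = 0
    rw [← sw_dd, show dd (bc B P) j (c.next j) z.1 = 0 from z.2, map_zero]
  obtain ⟨a, ha⟩ : ∃ a : Fin m → A, ∑ i, a i • v i = cls P j _ ⟨_, hzc⟩ :=
    (Submodule.mem_span_range_iff_exists_fun A).mp (hv ▸ Submodule.mem_top)
  simp only [← hx, ← map_smul, ← map_sum] at ha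
  rw [← sub_eq_zero, ← map_sub, cls_eq_zero_iff P (i := c.prev j) rfl] at ha
  obtain ⟨y, hy⟩ := ha
  let w : Cyc' (bc B P) j := ∑ i, algebraMap A B (a i) • (⟨_, hz i⟩ : Cyc' (bc B P) j)
  have hw : sw B P j w.1 = ∑ i, a i • (x i).1 := by
    rw [AddSubmonoidClass.coe_finsetSum, map_sum]
    refine Finset.sum_congr rfl fun i _ => ?_
    rw [SetLike.val_smul, sw_smul, AddEquiv.apply_symm_apply]
    generalize (x i).1 = t
    induction t using TensorProduct.induction_on with
    | zero => simp
    | tmul p b => simp [Algebra.smul_def, ← TensorProduct.tmul_smul]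
    | add s t hs ht => simp only [map_add, smul_add, hs, ht]
  have h0 : cls' (bc B P) j (w - z) = 0 := by
    rw [cls'_eq_zero_iff (bc B P) (i := c.prev j) rfl]
    refine ⟨(sw B P (c.prev j)).symm y, (sw B P j).injective ?_⟩
    rw [sw_dd, AddEquiv.apply_symm_apply, Submodule.coe_sub, map_sub, hw, hy, Submodule.coe_sub,
      AddSubmonoidClass.coe_finsetSum]
    rfl
  rw [map_sub, sub_eq_zero] at h0
  rw [← h0, map_sum]
  refine Submodule.sum_mem _ fun i _ => ?_
  rw [map_smul]
  exact Submodule.smul_mem _ _ (Submodule.subset_span ⟨i, rfl⟩)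

end Groth.L01.FlatCx
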