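import Mathlib.Algebra.Category.ModuleCat.Monoidal.Closed
import Mathlib.Algebra.Category.ModuleCat.Abelian
import Mathlib.Algebra.Category.ModuleCat.Colimits
import Mathlib.Algebra.Homology.ShortComplex.ModuleCat
import Mathlib.Algebra.Homology.ShortComplex.ExactFunctor
import Mathlib.CategoryTheory.Linear.LinearFunctor
import Mathlib.LinearAlgebra.DirectSum.Finsupp
import Mathlib.LinearAlgebra.TensorProduct.RightExactness
import Mathlib.LinearAlgebra.FreeModule.Basic
import Mathlib.RingTheory.Artinian.Module
import Mathlib.RingTheory.Artinian.Ring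
import Mathlib.RingTheory.LocalRing.ResidueField.Basic
import Mathlib.RingTheory.Flat.Basic
import Mathlib.Algebra.Module.Torsion.Basic
import Mathlib.LinearAlgebra.Basis.VectorSpace

/-!
Linear functors on modules compared with tensoring with their value at the ring.
-/

set_option autoImplicit false
universe u

open CategoryTheory CategoryTheory.Limits MonoidalCategory
open scoped TensorProduct

namespace Groth.L01.FlatCx

variable {A : Type u} [CommRing A] (T : ModuleCat.{u} A ⥤ ModuleCat.{u} A) [T.Additive] [T.Linear A]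

/-- The map `T(A) ⊗ M → T(M)`. -/
noncomputable def tMap (M : ModuleCat.{u} A) : T.obj (ModuleCat.of A A) ⊗[A] M →ₗ[A] T.obj M :=
  TensorProduct.lift (LinearMap.flip
    ((ModuleCat.homLinearEquiv (S := A)).toLinearMap ∘ₗ Functor.mapLinearMap A T ∘ₗ
      (ModuleCat.homLinearEquiv (S := A)).symm.toLinearMap ∘ₗ
        (LinearMap.ringLmapEquivSelf A A M).symm.toLinearMap))

lemma tMap_tmul (M : ModuleCat.{u} A) (y : T.obj (ModuleCat.of A A)) (x : M) :
    tMap T M (y ⊗ₜ x) =
      (T.map (ModuleCat.ofHom (LinearMap.toSpanSingleton A M x) : ModuleCat.of A A ⟶ M)).hom y := by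
  rfl

lemma tMap_natural {M N : ModuleCat.{u} A} (g : M ⟶ N) (z : T.obj (ModuleCat.of A A) ⊗[A] M) :
    (T.map g).hom (tMap T M z) = tMap T N (g.hom.lTensor _ z) := by
  induction z using TensorProduct.induction_on with
  | zero => simp
  | tmul y x =>
    rw [LinearMap.lTensor_tmul, tMap_tmul, tMap_tmul, ← LinearMap.comp_apply, ← ModuleCat.hom_comp,
      ← T.map_comp]
    congr 3
    ext
    simp
  | add a b ha hb => simp only [map_add, ha, hb]

lemma tMap_unit (y : T.obj (ModuleCat.of A A) ⊗[A] A) :
    tMap T (ModuleCat.of A A) y = TensorProduct.rid A _ y := by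
  induction y using TensorProduct.induction_on with
  | zero => simp
  | tmul y a =>
    rw [tMap_tmul, TensorProduct.rid_tmul,
      show (ModuleCat.ofHom (LinearMap.toSpanSingleton A A a) : ModuleCat.of A A ⟶ ModuleCat.of A A) =
        a • 𝟙 (ModuleCat.of A A) from by ext; simp, T.map_smul, T.map_id]
    rfl
  | add a b ha hb => simp only [map_add, ha, hb]

lemma tMap_unit_bijective : Function.Bijective (tMap T (ModuleCat.of A A)) := by
  rw [show ⇑(tMap T (ModuleCat.of A A)) = TensorProduct.rid A _ from funext (tMap_unit T)]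
  exact (TensorProduct.rid A _).bijective

/-- `T` of a direct sum of copies is generated by the components. -/
def Gen : Prop :=
  ∀ (ι : Type u) (M : ModuleCat.{u} A) (y : T.obj (ModuleCat.of A (ι →₀ M))),
    y ∈ ⨆ j : ι, LinearMap.range
      (T.map (ModuleCat.ofHom (Finsupp.lsingle j) : M ⟶ ModuleCat.of A (ι →₀ M))).hom

theorem gen_of_coproducts [∀ J : Type u, PreservesColimitsOfShape (Discrete J) T] : Gen T := by
  intro ι M y
  let cf : Cofan (fun _ : ι => M) := Cofan.mk (ModuleCat.of A (ι →₀ M))
    fun j => ModuleCat.ofHom (Finsupp.lsingle j)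
  have hc : IsColimit cf := mkCofanColimit cf
    (fun s => ModuleCat.ofHom (Finsupp.lsum A fun j => (s.inj j).hom))
    (fun s j => by
      ext x
      simp [cf])
    (fun s m hm => by
      apply ModuleCat.hom_ext
      refine Finsupp.lhom_ext fun j x => ?_
      have := LinearMap.congr_fun (ModuleCat.hom_ext_iff.mp (hm j)) x
      simp [cf] at this ⊢
      exact this)
  have hT := isColimitOfPreserves T hc
  set S := ⨆ j : ι, LinearMap.range
      (T.map (ModuleCat.ofHom (Finsupp.lsingle j) : M ⟶ ModuleCat.of A (ι →₀ M))).hom with hS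
  have h0 : (ModuleCat.ofHom S.mkQ : T.obj (ModuleCat.of A (ι →₀ M)) ⟶ ModuleCat.of A (_ ⧸ S)) = 0 := by
    refine hT.hom_ext fun ⟨j⟩ => ?_
    ext x
    show S.mkQ ((T.map (cf.inj j)).hom x) = 0
    rw [Submodule.mkQ_apply, Submodule.Quotient.mk_eq_zero]
    exact Submodule.mem_iSup_of_mem j ⟨x, rfl⟩
  exact (Submodule.Quotient.mk_eq_zero S).mp (LinearMap.congr_fun (ModuleCat.hom_ext_iff.mp h0) y)

variable {T}

theorem Gen.surjective_finsupp (hg : Gen T) (ι : Type u) (M : ModuleCat.{u} A)
    (h : Function.Surjective (tMap T M)) :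
    Function.Surjective (tMap T (ModuleCat.of A (ι →₀ M))) := by
  refine LinearMap.range_eq_top.mp (top_le_iff.mp fun y _ => ?_)
  refine (iSup_le fun j => ?_ : _ ≤ LinearMap.range (tMap T (ModuleCat.of A (ι →₀ M)))) (hg ι M y)
  rintro _ ⟨x, rfl⟩
  obtain ⟨z, rfl⟩ := h x
  exact ⟨_, (tMap_natural T _ z).symm⟩

theorem tMap_surjective_of_equiv {M N : ModuleCat.{u} A} (e : M ≅ N)
    (h : Function.Surjective (tMap T M)) : Function.Surjective (tMap T N) := by
  intro y
  obtain ⟨z, hz⟩ := h ((T.map e.inv).hom y)
  refine ⟨e.hom.hom.lTensor _ z, ?_⟩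
  rw [← tMap_natural, hz, ← LinearMap.comp_apply, ← ModuleCat.hom_comp, ← T.map_comp, e.inv_hom_id,
    T.map_id]
  rfl

theorem Gen.bijective_free (hg : Gen T) (L : ModuleCat.{u} A) [Module.Free A L] :
    Function.Bijective (tMap T L) := by
  let b := Module.Free.chooseBasis A L
  refine ⟨(injective_iff_map_eq_zero _).mpr fun z hz => ?_,
    tMap_surjective_of_equiv b.repr.symm.toModuleIso
      (hg.surjective_finsupp _ (ModuleCat.of A A) (tMap_unit_bijective T).2)⟩
  let e := (LinearEquiv.lTensor (T.obj (ModuleCat.of A A)) b.repr).trans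
    (TensorProduct.finsuppScalarRight A A (T.obj (ModuleCat.of A A)) _)
  refine e.injective ?_
  rw [map_zero]
  ext i
  have h := tMap_natural T (ModuleCat.ofHom ((Finsupp.lapply i).comp b.repr.toLinearMap) :
    L ⟶ ModuleCat.of A A) z
  rw [hz, map_zero, tMap_unit] at h
  rw [Finsupp.zero_apply, h]
  clear h hz
  induction z using TensorProduct.induction_on with
  | zero => simp
  | tmul y x => simp [e]
  | add a b ha hb => simp only [map_add, Finsupp.add_apply, ha, hb]

/-- Half exactness. -/
abbrev HalfExact (T : ModuleCat.{u} A ⥤ ModuleCat.{u} A) [T.Additive] : Prop :=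
  ∀ S : ShortComplex (ModuleCat.{u} A), S.ShortExact → (S.map T).Exact

theorem halfExact_apply (hhe : HalfExact T) {M₁ M₂ M₃ : ModuleCat.{u} A} (f : M₁ ⟶ M₂) (g : M₂ ⟶ M₃)
    (hf : Function.Injective f.hom) (hg : Function.Surjective g.hom) (hfg : Function.Exact f.hom g.hom)
    (y : T.obj M₂) (hy : (T.map g).hom y = 0) : ∃ x : T.obj M₁, (T.map f).hom x = y := by
  have hmono : Mono f := (ModuleCat.mono_iff_injective f).mpr hf
  have hepi : Epi g := (ModuleCat.epi_iff_surjective g).mpr hg
  let S := ShortComplex.mk f g (ModuleCat.hom_ext hfg.linearMap_comp_eq_zero)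
  have hS : S.ShortExact :=
    { exact := (ShortComplex.moduleCat_exact_iff S).mpr fun x hx => (hfg x).mp hx }
  exact (ShortComplex.moduleCat_exact_iff (S.map T)).mp (hhe S hS) y hy

/-- A surjection from a free module. -/
theorem exists_free_cover (M : ModuleCat.{u} A) :
    ∃ (L : ModuleCat.{u} A) (g : L ⟶ M), Module.Free A L ∧ Function.Surjective g.hom :=
  ⟨ModuleCat.of A (M →₀ A), ModuleCat.ofHom (Finsupp.linearCombination A (id : M → M)),
    inferInstanceAs (Module.Free A (M →₀ A)), Finsupp.linearCombination_id_surjective A M⟩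

theorem bijective_of_halfExact_epi (hg : Gen T) (hhe : HalfExact T) [T.PreservesEpimorphisms]
    (M : ModuleCat.{u} A) : Function.Bijective (tMap T M) := by
  have hsurj : ∀ M : ModuleCat.{u} A, Function.Surjective (tMap T M) := by
    intro M
    obtain ⟨L, g, _, hgs⟩ := exists_free_cover M
    have : Epi g := (ModuleCat.epi_iff_surjective g).mpr hgs
    intro y
    obtain ⟨y', rfl⟩ := (ModuleCat.epi_iff_surjective _).mp (Functor.map_epi T g) y
    obtain ⟨z, rfl⟩ := (hg.bijective_free L).2 y'
    exact ⟨_, (tMap_natural T g z).symm⟩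
  refine ⟨(injective_iff_map_eq_zero _).mpr fun z hz => ?_, hsurj M⟩
  obtain ⟨L, g, _, hgs⟩ := exists_free_cover M
  obtain ⟨z', rfl⟩ := LinearMap.lTensor_surjective _ hgs z
  rw [← tMap_natural] at hz
  let f : ModuleCat.of A (LinearMap.ker g.hom) ⟶ L := ModuleCat.ofHom (LinearMap.ker g.hom).subtype
  have hfg : Function.Exact f.hom g.hom := LinearMap.exact_iff.mpr (Submodule.range_subtype _).symm
  obtain ⟨x, hx⟩ := halfExact_apply hhe f g (Submodule.injective_subtype _) hgs hfg _ hz
  obtain ⟨w, rfl⟩ := hsurj _ x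
  rw [tMap_natural] at hx
  rw [← (hg.bijective_free L).1 hx, ← LinearMap.comp_apply, ← LinearMap.lTensor_comp,
    show g.hom ∘ₗ f.hom = 0 from hfg.linearMap_comp_eq_zero, LinearMap.lTensor_zero]
  rfl

theorem preservesEpi_of_surjective (h : ∀ M : ModuleCat.{u} A, Function.Surjective (tMap T M)) :
    T.PreservesEpimorphisms where
  preserves {M N} g hg := by
    rw [ModuleCat.epi_iff_surjective]
    intro y
    obtain ⟨z, rfl⟩ := h N y
    obtain ⟨z', rfl⟩ := LinearMap.lTensor_surjective _ ((ModuleCat.epi_iff_surjective g).mp hg) z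
    exact ⟨_, tMap_natural T g z'⟩

variable (T) in
/-- The comparison as a natural isomorphism. -/
noncomputable def tIso (h : ∀ M, Function.Bijective (tMap T M)) :
    tensorLeft (T.obj (ModuleCat.of A A)) ≅ T :=
  NatIso.ofComponents (fun M => (LinearEquiv.ofBijective (tMap T M) (h M)).toModuleIso) fun g => by
    apply ModuleCat.hom_ext
    exact LinearMap.ext fun z => (tMap_natural T g z).symm

theorem preservesFiniteColimits_of_bijective (h : ∀ M, Function.Bijective (tMap T M)) :
    PreservesFiniteColimits T :=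
  have : PreservesFiniteColimits (tensorLeft (T.obj (ModuleCat.of A A))) := inferInstance
  preservesFiniteColimits_of_natIso (tIso T h)

theorem rightExact_iff : PreservesFiniteColimits T ↔ HalfExact T ∧ T.PreservesEpimorphisms := by
  rw [Functor.preservesFiniteColimits_iff_forall_exact_map_and_epi]
  refine ⟨fun h => ⟨fun S hS => (h S hS).1,
    Functor.preservesEpimorphisms_of_preserves_shortExact_right T h⟩, fun ⟨h₁, h₂⟩ S hS => ⟨h₁ S hS, ?_⟩⟩
  have := hS.epi_g
  infer_instance

theorem bijective_of_rightExact (hg : Gen T) [PreservesFiniteColimits T] (M : ModuleCat.{u} A) :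
    Function.Bijective (tMap T M) :=
  have h := rightExact_iff.mp ‹PreservesFiniteColimits T›
  have := h.2
  bijective_of_halfExact_epi hg h.1 M

section local_artinian

variable [IsLocalRing A]

open IsLocalRing

theorem surjective_of_killed_maximal (hg : Gen T)
    (hk : Function.Surjective
      (T.map (ModuleCat.ofHom (Algebra.linearMap A (ResidueField A)) :
        ModuleCat.of A A ⟶ ModuleCat.of A (ResidueField A))).hom)
    (M : ModuleCat.{u} A) (hM : ∀ a ∈ maximalIdeal A, ∀ x : M, a • x = 0) :
    Function.Surjective (tMap T M) := by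
  have hres : Function.Surjective (tMap T (ModuleCat.of A (ResidueField A))) := by
    intro y
    obtain ⟨y', rfl⟩ := hk y
    refine ⟨y' ⊗ₜ (1 : ResidueField A), ?_⟩
    rw [tMap_tmul]
    congr 3
    ext
    simp
  have ht : Module.IsTorsionBySet A M (maximalIdeal A : Set A) := fun x a => hM a a.2 x
  letI : Module (ResidueField A) M := ht.module
  haveI : IsScalarTower A (ResidueField A) M := ht.isScalarTower
  let b := Module.Free.chooseBasis (ResidueField A) M
  exact tMap_surjective_of_equiv (LinearEquiv.restrictScalars A b.repr.symm).toModuleIso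
    (hg.surjective_finsupp _ (ModuleCat.of A (ResidueField A)) hres)

theorem surjective_of_nilpotent (hg : Gen T) (hhe : HalfExact T)
    (hk : Function.Surjective
      (T.map (ModuleCat.ofHom (Algebra.linearMap A (ResidueField A)) :
        ModuleCat.of A A ⟶ ModuleCat.of A (ResidueField A))).hom) :
    ∀ (n : ℕ) (M : ModuleCat.{u} A), (∀ a ∈ maximalIdeal A ^ n, ∀ x : M, a • x = 0) →
      Function.Surjective (tMap T M) := by
  intro n
  induction n with
  | zero =>
    intro M hM
    have : Subsingleton M := ⟨fun x y => by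
      rw [← one_smul A x, hM 1 (by simp) x, ← one_smul A y, hM 1 (by simp) y]⟩
    exact surjective_of_killed_maximal hg hk M fun a _ x => Subsingleton.elim _ _
  | succ n ih =>
    intro M hM
    let N : Submodule A M := maximalIdeal A ^ n • ⊤
    let f : ModuleCat.of A N ⟶ M := ModuleCat.ofHom N.subtype
    let g : M ⟶ ModuleCat.of A (M ⧸ N) := ModuleCat.ofHom N.mkQ
    have h₁ : Function.Surjective (tMap T (ModuleCat.of A N)) := by
      refine surjective_of_killed_maximal hg hk _ fun a ha x => Subtype.ext ?_
      have : a • (x : M) ∈ (maximalIdeal A ^ (n + 1)) • (⊤ : Submodule A M) := by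
        rw [pow_succ', Submodule.mul_smul]
        exact Submodule.smul_mem_smul ha x.2
      rw [show (maximalIdeal A ^ (n + 1)) • (⊤ : Submodule A M) = ⊥ from eq_bot_iff.mpr
        (Submodule.smul_le.mpr fun r hr y _ => by rw [Submodule.mem_bot]; exact hM r hr y)] at this
      exact (Submodule.mem_bot A).mp this
    have h₂ : Function.Surjective (tMap T (ModuleCat.of A (M ⧸ N))) := by
      refine ih _ fun a ha x => ?_
      obtain ⟨y, rfl⟩ := N.mkQ_surjective x
      rw [← map_smul, Submodule.mkQ_apply, Submodule.Quotient.mk_eq_zero]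
      exact Submodule.smul_mem_smul ha Submodule.mem_top
    intro y
    obtain ⟨z, hz⟩ := h₂ ((T.map g).hom y)
    obtain ⟨z', rfl⟩ := LinearMap.lTensor_surjective _ N.mkQ_surjective z
    have hz : (T.map g).hom (tMap T M z') = (T.map g).hom y := (tMap_natural T g z').trans hz
    obtain ⟨x, hx⟩ := halfExact_apply hhe f g (Submodule.injective_subtype _) N.mkQ_surjective
      (LinearMap.exact_iff.mpr (by simp [f, g])) (y - tMap T M z')
      (by rw [map_sub, hz, sub_self])
    obtain ⟨w, rfl⟩ := h₁ x
    refine ⟨z' + f.hom.lTensor _ w, ?_⟩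
    rw [map_add, ← tMap_natural, hx, add_sub_cancel]

theorem surjective_of_artinian [IsArtinianRing A] (hg : Gen T) (hhe : HalfExact T)
    (hk : Function.Surjective
      (T.map (ModuleCat.ofHom (Algebra.linearMap A (ResidueField A)) :
        ModuleCat.of A A ⟶ ModuleCat.of A (ResidueField A))).hom)
    (M : ModuleCat.{u} A) : Function.Surjective (tMap T M) := by
  obtain ⟨n, hn⟩ := IsArtinianRing.isNilpotent_jacobson_bot (R := A)
  rw [IsLocalRing.jacobson_eq_maximalIdeal ⊥ bot_ne_top] at hn
  refine surjective_of_nilpotent hg hhe hk n M fun a ha x => ?_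
  rw [hn] at ha
  rw [Ideal.mem_bot.mp ha, zero_smul]

end local_artinian

end Groth.L01.FlatCx
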