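import Groth.Agent.L01.FlatCx.Fun
import Mathlib.CategoryTheory.Linear.Yoneda
import Mathlib.RingTheory.Finiteness.Basic
import Mathlib.RingTheory.Flat.EquationalCriterion
import Mathlib.LinearAlgebra.TensorProduct.Associator
import Mathlib.Algebra.Module.Projective

/-!
Corepresentability of `H_j(P ⊗ -)`.
-/

set_option autoImplicit false
universe u

open CategoryTheory CategoryTheory.Limits MonoidalCategory Opposite
open scoped TensorProduct

namespace Groth.L01.FlatCx

variable {A : Type u} [CommRing A] {ι : Type} {c : ComplexShape ι}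
  (P : HomologicalComplex (ModuleCat.{u} A) c)

theorem exists_dualBasis (Q : Type u) [AddCommGroup Q] [Module A Q] [Module.Finite A Q]
    [Module.Projective A Q] :
    ∃ (n : ℕ) (e : Fin n → Q) (f : Fin n → (Q →ₗ[A] A)), ∀ x, ∑ i, f i x • e i = x := by
  obtain ⟨n, s, hs⟩ := Module.Finite.exists_fin' A Q
  obtain ⟨t, ht⟩ := Module.projective_lifting_property s LinearMap.id hs
  refine ⟨n, fun i => s (Pi.single i 1), fun i => LinearMap.proj i ∘ₗ t, fun x => ?_⟩
  conv_rhs => rw [show x = s (t x) from (LinearMap.congr_fun ht x).symm,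
    pi_eq_sum_univ' (t x), map_sum]
  simp [Pi.single_apply]

/-- Evaluation of `Q ⊗ M` at functionals. -/
noncomputable def evD (Q M : Type u) [AddCommGroup Q] [Module A Q] [AddCommGroup M] [Module A M] :
    Q ⊗[A] M →ₗ[A] (Q →ₗ[A] A) →ₗ[A] M :=
  LinearMap.flip
    { toFun := fun f => (TensorProduct.lid A M).toLinearMap ∘ₗ f.rTensor M
      map_add' := fun f g => by rw [LinearMap.rTensor_add, LinearMap.comp_add]
      map_smul' := fun a f => by rw [LinearMap.rTensor_smul, LinearMap.comp_smul]; rfl }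

lemma evD_tmul (Q M : Type u) [AddCommGroup Q] [Module A Q] [AddCommGroup M] [Module A M]
    (q : Q) (m : M) (f : Q →ₗ[A] A) : evD Q M (q ⊗ₜ m) f = f q • m := by
  simp [evD]

theorem evD_bijective (Q M : Type u) [AddCommGroup Q] [Module A Q] [Module.Finite A Q]
    [Module.Projective A Q] [AddCommGroup M] [Module A M] : Function.Bijective (evD (A := A) Q M) := by
  obtain ⟨n, e, f, hef⟩ := exists_dualBasis (A := A) Q
  have hz : ∀ z : Q ⊗[A] M, ∑ i, e i ⊗ₜ[A] evD Q M z (f i) = z := by
    intro z
    induction z using TensorProduct.induction_on with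
    | zero => simp
    | tmul q m =>
      simp only [evD_tmul, TensorProduct.tmul_smul, TensorProduct.smul_tmul', ← TensorProduct.sum_tmul,
        hef]
    | add a b ha hb => simp only [map_add, LinearMap.add_apply, TensorProduct.tmul_add,
        Finset.sum_add_distrib, ha, hb]
  refine ⟨fun a b hab => by rw [← hz a, ← hz b, hab], fun h => ⟨∑ i, e i ⊗ₜ[A] h (f i), ?_⟩⟩
  refine LinearMap.ext fun g => ?_
  simp only [map_sum, LinearMap.sum_apply, evD_tmul, ← map_smul]
  rw [← map_sum]
  congr 1
  refine LinearMap.ext fun x => ?_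
  conv_rhs => rw [← hef x, map_sum]
  simp [mul_comm]

lemma evD_natural {Q M M' : Type u} [AddCommGroup Q] [Module A Q] [AddCommGroup M] [Module A M]
    [AddCommGroup M'] [Module A M'] (g : M →ₗ[A] M') (z : Q ⊗[A] M) (f : Q →ₗ[A] A) :
    evD Q M' (g.lTensor Q z) f = g (evD Q M z f) := by
  induction z using TensorProduct.induction_on with
  | zero => simp
  | tmul q m => simp [evD_tmul]
  | add a b ha hb => simp only [map_add, LinearMap.add_apply, ha, hb]

lemma evD_rTensor {Q R M : Type u} [AddCommGroup Q] [Module A Q] [AddCommGroup R] [Module A R]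
    [AddCommGroup M] [Module A M] (d : Q →ₗ[A] R) (z : Q ⊗[A] M) (f : R →ₗ[A] A) :
    evD R M (d.rTensor M z) f = evD Q M z (f ∘ₗ d) := by
  induction z using TensorProduct.induction_on with
  | zero => simp
  | tmul q m => simp [evD_tmul]
  | add a b ha hb => simp only [map_add, LinearMap.add_apply, ha, hb]

/-- The functionals on the cokernel killing `Coker_{ij} → P_k`. -/
noncomputable abbrev CoRep (i j k : ι) : Type u :=
  (Coker P i j →ₗ[A] A) ⧸ LinearMap.range (LinearMap.lcomp A A
    (Submodule.liftQ (LinearMap.range (dd P i j)) (dd P j k)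
      (by rintro _ ⟨x, rfl⟩; exact dd_dd P i j k x)))

/-- A cycle evaluated on functionals. -/
noncomputable def phi {i j k : ι} (hk : c.next j = k) (M : ModuleCat.{u} A) :
    Cyc P j M →ₗ[A] CoRep P i j k →ₗ[A] M :=
  LinearMap.flip (Submodule.liftQ _
    (LinearMap.flip (evD (Coker P i j) M ∘ₗ (LinearMap.range (dd P i j)).mkQ.rTensor M ∘ₗ
      (Cyc P j M).subtype)) (by
    subst hk
    rintro _ ⟨g, rfl⟩
    refine LinearMap.ext fun x => ?_
    show evD (Coker P i j) M ((LinearMap.range (dd P i j)).mkQ.rTensor M x.1) (g ∘ₗ _) = 0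
    rw [evD_rTensor, LinearMap.comp_assoc, Submodule.liftQ_mkQ, ← evD_rTensor, x.2, map_zero,
      LinearMap.zero_apply]))

lemma phi_apply {i j k : ι} (hk : c.next j = k) (M : ModuleCat.{u} A) (x : Cyc P j M)
    (f : Coker P i j →ₗ[A] A) :
    phi P (i := i) hk M x (Submodule.Quotient.mk f) =
      evD (Coker P i j) M ((LinearMap.range (dd P i j)).mkQ.rTensor M x.1) f := rfl

theorem phi_eq_zero_iff {i j k : ι} (hi : c.prev j = i) (hk : c.next j = k)
    [Module.Finite A (Coker P i j)] [Module.Projective A (Coker P i j)] (M : ModuleCat.{u} A)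
    (x : Cyc P j M) : phi P (i := i) hk M x = 0 ↔ cls P j M x = 0 := by
  rw [cls_eq_zero_iff P hi]
  constructor
  · intro h
    refine ((coker_rTensor_exact P M i j) _).mp ((evD_bijective (A := A) (Coker P i j) M).1 ?_)
    refine LinearMap.ext fun f => ?_
    rw [map_zero, LinearMap.zero_apply, ← phi_apply P hk M x f, h, LinearMap.zero_apply]
  · intro h
    refine LinearMap.ext fun q => ?_
    obtain ⟨f, rfl⟩ := Submodule.Quotient.mk_surjective _ q
    rw [phi_apply, ((coker_rTensor_exact P M i j) _).mpr h, map_zero]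
    rfl

theorem phi_surjective {i j k : ι} (hk : c.next j = k) [Module.Finite A (Coker P i j)]
    [Module.Projective A (Coker P i j)] [Module.Finite A (P.X k)] [Module.Projective A (P.X k)]
    (M : ModuleCat.{u} A) : Function.Surjective (phi P (i := i) hk M) := by
  intro h
  obtain ⟨z, hz⟩ := (evD_bijective (A := A) (Coker P i j) M).2 (h ∘ₗ Submodule.mkQ _)
  obtain ⟨x, rfl⟩ := coker_rTensor_surjective P M i j z
  have hx : x ∈ Cyc P j M := by
    subst hk
    refine (evD_bijective (A := A) (P.X (c.next j)) M).1 ?_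
    refine LinearMap.ext fun g => ?_
    rw [map_zero, LinearMap.zero_apply, evD_rTensor]
    have hmem : Submodule.Quotient.mk (g ∘ₗ Submodule.liftQ (LinearMap.range (dd P i j))
        (dd P j (c.next j)) (by rintro _ ⟨x, rfl⟩; exact dd_dd P i j _ x)) =
        (0 : CoRep P i j (c.next j)) := (Submodule.Quotient.mk_eq_zero _).mpr ⟨g, rfl⟩
    have h' := LinearMap.congr_fun hz (g ∘ₗ Submodule.liftQ (LinearMap.range (dd P i j))
        (dd P j (c.next j)) (by rintro _ ⟨x, rfl⟩; exact dd_dd P i j _ x))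
    rw [evD_rTensor, LinearMap.comp_assoc, Submodule.liftQ_mkQ, LinearMap.comp_apply,
      Submodule.mkQ_apply, hmem, map_zero] at h'
    exact h'
  refine ⟨⟨x, hx⟩, LinearMap.ext fun q => ?_⟩
  obtain ⟨f, rfl⟩ := Submodule.Quotient.mk_surjective _ q
  exact (phi_apply P hk M _ f).trans (LinearMap.congr_fun hz f)

/-- The corepresentation. -/
theorem nonempty_corep_iso {i j k : ι} (hi : c.prev j = i) (hk : c.next j = k)
    [Module.Finite A (Coker P i j)] [Module.Projective A (Coker P i j)] [Module.Finite A (P.X k)]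
    [Module.Projective A (P.X k)] :
    Nonempty (CohIII.TFun P j ≅
      (linearCoyoneda A (ModuleCat.{u} A)).obj (op (ModuleCat.of A (CoRep P i j k)))) := by
  have key : ∀ M : ModuleCat.{u} A, ∃ e : ((CohIII.TFun P j).obj M : Type u) ≃ₗ[A]
      (CoRep P i j k →ₗ[A] M), ∀ x, e (cls P j M x) = phi P hk M x := by
    intro M
    let e₁ := (cls P j M).quotKerEquivOfSurjective (cls_surjective P j M)
    let e₂ := (phi P (i := i) hk M).quotKerEquivOfSurjective (phi_surjective P hk M)
    have hker : LinearMap.ker (cls P j M) = LinearMap.ker (phi P (i := i) hk M) :=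
      Submodule.ext fun x => (phi_eq_zero_iff P hi hk M x).symm
    refine ⟨e₁.symm.trans ((Submodule.quotEquivOfEq _ _ hker).trans e₂), fun x => ?_⟩
    rw [show cls P j M x = e₁ (Submodule.Quotient.mk x) from rfl, LinearEquiv.trans_apply,
      LinearEquiv.symm_apply_apply]
    rfl
  choose e he using key
  refine ⟨NatIso.ofComponents (fun M => ((e M).trans
    (ModuleCat.homLinearEquiv (S := A) (M := ModuleCat.of A (CoRep P i j k)) (N := M)).symm).toModuleIso)
    fun {M N} g => ?_⟩
  apply ModuleCat.hom_ext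
  refine LinearMap.ext fun a => ?_
  obtain ⟨x, rfl⟩ := cls_surjective P j M a
  apply ModuleCat.hom_ext
  show e N (((CohIII.TFun P j).map g).hom (cls P j M x)) = g.hom ∘ₗ e M (cls P j M x)
  rw [map_cls, he, he]
  refine LinearMap.ext fun q => ?_
  obtain ⟨f, rfl⟩ := Submodule.Quotient.mk_surjective _ q
  show phi P hk N (cycMap P j g x) (Submodule.Quotient.mk f) = g.hom (phi P hk M x (Submodule.Quotient.mk f))
  rw [phi_apply, phi_apply, cycMap_coe, ← lTensor_rTensor, evD_natural]

theorem preservesMono_of_iso_coyoneda (j : ι) (Q : ModuleCat.{u} A)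
    (e : CohIII.TFun P j ≅ (linearCoyoneda A (ModuleCat.{u} A)).obj (op Q)) :
    (CohIII.TFun P j).PreservesMonomorphisms :=
  have : ((linearCoyoneda A (ModuleCat.{u} A)).obj (op Q)).PreservesMonomorphisms :=
    ⟨fun g hg => (ModuleCat.mono_iff_injective _).mpr fun a b hab => by
      have := hg
      exact (cancel_mono g).mp hab⟩
  Functor.PreservesMonomorphisms.of_iso e.symm

/-- A corepresenting module is finitely generated. -/
theorem finite_of_iso_coyoneda (j : ι) (hP : ∀ i, Module.Flat A (P.X i)) (Q : ModuleCat.{u} A)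
    (e : CohIII.TFun P j ≅ (linearCoyoneda A (ModuleCat.{u} A)).obj (op Q)) : Module.Finite A Q := by
  obtain ⟨x, hx⟩ := cls_surjective P j Q ((e.app Q).inv.hom (𝟙 Q))
  have key : ∀ z : P.X j ⊗[A] Q, ∃ S : Submodule A Q, S.FG ∧
      z ∈ LinearMap.range (S.subtype.lTensor (P.X j)) := by
    intro z
    induction z using TensorProduct.induction_on with
    | zero => exact ⟨⊥, Submodule.fg_bot, Submodule.zero_mem _⟩
    | tmul a q =>
      exact ⟨Submodule.span A {q}, Submodule.fg_span_singleton q,
        a ⊗ₜ ⟨q, Submodule.mem_span_singleton_self q⟩, rfl⟩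
    | add a b ha hb =>
      obtain ⟨S₁, h₁, a', rfl⟩ := ha
      obtain ⟨S₂, h₂, b', rfl⟩ := hb
      refine ⟨S₁ ⊔ S₂, h₁.sup h₂, (Submodule.inclusion le_sup_left).lTensor _ a' +
        (Submodule.inclusion le_sup_right).lTensor _ b', ?_⟩
      rw [map_add, ← LinearMap.comp_apply, ← LinearMap.comp_apply, ← LinearMap.lTensor_comp,
        ← LinearMap.lTensor_comp, Submodule.subtype_comp_inclusion, Submodule.subtype_comp_inclusion]
  obtain ⟨S, hS, x₀, hx₀⟩ := key x.1
  let incl : ModuleCat.of A S ⟶ Q := ModuleCat.ofHom S.subtype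
  have hc : x₀ ∈ Cyc P j (ModuleCat.of A S) := by
    have := hP (c.next j)
    refine Module.Flat.lTensor_preserves_injective_linearMap S.subtype (Submodule.injective_subtype _) ?_
    rw [map_zero, lTensor_rTensor, hx₀]
    exact x.2
  have h2 := LinearMap.congr_fun (ModuleCat.hom_ext_iff.mp (e.hom.naturality incl))
    (cls P j _ ⟨x₀, hc⟩)
  have h2 : (e.app Q).hom.hom (((CohIII.TFun P j).map incl).hom (cls P j _ ⟨x₀, hc⟩)) =
      (e.app (ModuleCat.of A S)).hom.hom (cls P j _ ⟨x₀, hc⟩) ≫ incl := h2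
  rw [map_cls, show cycMap P j incl ⟨x₀, hc⟩ = x from Subtype.ext hx₀, hx] at h2
  have h3 : (𝟙 Q : Q ⟶ Q) = (e.app (ModuleCat.of A S)).hom.hom (cls P j _ ⟨x₀, hc⟩) ≫ incl :=
    (LinearMap.congr_fun (ModuleCat.hom_ext_iff.mp (e.app Q).inv_hom_id) (𝟙 Q)).symm.trans h2
  have hsurj : Function.Surjective S.subtype := fun q =>
    ⟨((e.app (ModuleCat.of A S)).hom.hom (cls P j _ ⟨x₀, hc⟩)).hom q,
      (LinearMap.congr_fun (ModuleCat.hom_ext_iff.mp h3) q).symm⟩
  have : Module.Finite A S := Module.Finite.iff_fg.mpr hS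
  exact Module.Finite.of_surjective S.subtype hsurj

end Groth.L01.FlatCx
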