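import Groth.Agent.L01.FlatCx.Basic
import Groth.Agent.L01.FlatCx.Compare

/-!
`H_j(P ⊗ -)` is `H_j(P) ⊗ -` when it preserves surjections; exactness criteria.
-/

set_option autoImplicit false
universe u

open CategoryTheory CategoryTheory.Limits MonoidalCategory
open scoped TensorProduct

namespace Groth.L01.FlatCx

variable {A : Type u} [CommRing A] {ι : Type} {c : ComplexShape ι}
  (P : HomologicalComplex (ModuleCat.{u} A) c)

lemma sum_lsingle_lapply {J : Type u} (M : Type u) [AddCommGroup M] [Module A M] (s : Finset J)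
    (m : J →₀ M) (hm : m.support ⊆ s) : (∑ j ∈ s, Finsupp.single j (m j)) = m := by
  rw [← Finset.sum_subset hm fun j _ hj => by
    rw [Finsupp.notMem_support_iff.mp hj, Finsupp.single_zero]]
  exact m.sum_single

theorem gen_TFun (j : ι) : Gen (CohIII.TFun P j) := by
  classical
  intro J M h
  obtain ⟨x, rfl⟩ := cls_surjective P j _ h
  let pr : J → (ModuleCat.of A (J →₀ M) ⟶ M) := fun i => ModuleCat.ofHom (Finsupp.lapply (R := A) i)
  let ins : J → (M ⟶ ModuleCat.of A (J →₀ M)) := fun i => ModuleCat.ofHom (Finsupp.lsingle (R := A) i)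
  obtain ⟨s, hs⟩ : ∃ s : Finset J,
      ∑ i ∈ s, (ins i).hom.lTensor (P.X j) ((pr i).hom.lTensor (P.X j) x.1) = x.1 := by
    suffices key : ∀ z : P.X j ⊗[A] (J →₀ M), ∃ s : Finset J, ∀ t, s ⊆ t →
        ∑ i ∈ t, (ins i).hom.lTensor (P.X j) ((pr i).hom.lTensor (P.X j) z) = z by
      obtain ⟨s, hs⟩ := key x.1
      exact ⟨s, hs s subset_rfl⟩
    intro z
    induction z using TensorProduct.induction_on with
    | zero => exact ⟨∅, fun t _ => by simp⟩
    | tmul a m =>
      refine ⟨m.support, fun t ht => ?_⟩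
      show ∑ i ∈ t, a ⊗ₜ[A] Finsupp.single i (m i) = a ⊗ₜ[A] m
      rw [← TensorProduct.tmul_sum, sum_lsingle_lapply (A := A) M t m ht]
    | add a b ha hb =>
      obtain ⟨s₁, h₁⟩ := ha
      obtain ⟨s₂, h₂⟩ := hb
      refine ⟨s₁ ∪ s₂, fun t ht => ?_⟩
      simp only [map_add, Finset.sum_add_distrib]
      rw [h₁ t (Finset.union_subset_left ht), h₂ t (Finset.union_subset_right ht)]
  have hx : x = ∑ i ∈ s, cycMap P j (ins i) (cycMap P j (pr i) x) := Subtype.ext (by
    rw [AddSubmonoidClass.coe_finsetSum]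
    exact hs.symm)
  rw [hx, map_sum]
  refine Submodule.sum_mem _ fun i _ => Submodule.mem_iSup_of_mem i ?_
  exact ⟨cls P j M (cycMap P j (pr i) x), map_cls P j (ins i) _⟩

theorem halfExact_TFun (j : ι) (hP : ∀ i, Module.Flat A (P.X i)) : HalfExact (CohIII.TFun P j) :=
  map_exact P j hP

theorem bijective_of_preservesEpi (j : ι) (hP : ∀ i, Module.Flat A (P.X i))
    [(CohIII.TFun P j).PreservesEpimorphisms] (M : ModuleCat.{u} A) :
    Function.Bijective (tMap (CohIII.TFun P j) M) :=
  bijective_of_halfExact_epi (gen_TFun P j) (halfExact_TFun P j hP) M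

/-- `H_j(P ⊗ A) ≅ H_j(P)`. -/
noncomputable def unitEquiv (j : ι) :
    ((CohIII.TFun P j).obj (ModuleCat.of A A) : Type u) ≃ₗ[A] (P.homology j : Type u) :=
  (TUnitIso P j).toLinearEquiv

variable {P}

theorem preservesEpi_of_iso_tensorLeft {T : ModuleCat.{u} A ⥤ ModuleCat.{u} A} {N : ModuleCat.{u} A}
    (e : T ≅ tensorLeft N) : T.PreservesEpimorphisms :=
  have : (tensorLeft N).PreservesEpimorphisms := ⟨fun g hg => (ModuleCat.epi_iff_surjective _).mpr
    (LinearMap.lTensor_surjective _ ((ModuleCat.epi_iff_surjective g).mp hg))⟩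
  Functor.PreservesEpimorphisms.of_iso e.symm

theorem preservesMono_of_iso_tensorLeft {T : ModuleCat.{u} A ⥤ ModuleCat.{u} A} {N : ModuleCat.{u} A}
    [Module.Flat A N] (e : T ≅ tensorLeft N) : T.PreservesMonomorphisms :=
  have : (tensorLeft N).PreservesMonomorphisms := ⟨fun g hg => (ModuleCat.mono_iff_injective _).mpr
    (Module.Flat.lTensor_preserves_injective_linearMap (M := N) g.hom
      ((ModuleCat.mono_iff_injective g).mp hg))⟩
  Functor.PreservesMonomorphisms.of_iso e.symm

theorem flat_of_preservesMono_of_bijective {T : ModuleCat.{u} A ⥤ ModuleCat.{u} A} [T.Additive]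
    [T.Linear A] [T.PreservesMonomorphisms] (h : ∀ M, Function.Bijective (tMap T M)) :
    Module.Flat A (T.obj (ModuleCat.of A A)) := by
  refine Module.Flat.iff_lTensor_preserves_injective_linearMap.mpr fun M N _ _ _ _ f hf => ?_
  have : Mono (ModuleCat.ofHom f) := (ModuleCat.mono_iff_injective _).mpr hf
  intro a b hab
  refine (h (ModuleCat.of A M)).1
    ((ModuleCat.mono_iff_injective _).mp (Functor.map_mono T (ModuleCat.ofHom f)) ?_)
  exact (tMap_natural T (ModuleCat.ofHom f) a).trans ((congrArg (tMap T _) hab).trans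
    (tMap_natural T (ModuleCat.ofHom f) b).symm)

variable (P)

/-- Exactness on both sides gives flat homology. -/
theorem flat_homology_of_exact (j : ι) (hP : ∀ i, Module.Flat A (P.X i))
    [(CohIII.TFun P j).PreservesEpimorphisms] [(CohIII.TFun P j).PreservesMonomorphisms] :
    Module.Flat A ((CohIII.TFun P j).obj (ModuleCat.of A A)) :=
  flat_of_preservesMono_of_bijective (bijective_of_preservesEpi P j hP)

theorem preservesMono_iff_flat_obj (j : ι) (hP : ∀ i, Module.Flat A (P.X i))
    [(CohIII.TFun P j).PreservesEpimorphisms] :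
    (CohIII.TFun P j).PreservesMonomorphisms ↔
      Module.Flat A ((CohIII.TFun P j).obj (ModuleCat.of A A)) :=
  ⟨fun h => flat_homology_of_exact P j hP, fun _ =>
    preservesMono_of_iso_tensorLeft (tIso _ (bijective_of_preservesEpi P j hP)).symm⟩

end Groth.L01.FlatCx
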