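import Mathlib.Algebra.Category.ModuleCat.FilteredColimits
import Mathlib.Algebra.Category.ModuleCat.ChangeOfRings
import Mathlib.Algebra.Category.ModuleCat.Colimits
import Mathlib.Algebra.Homology.ShortComplex.ExactFunctor
import Mathlib.Algebra.Homology.ShortComplex.ModuleCat
import Mathlib.Algebra.Category.ModuleCat.Abelian
import Mathlib.Algebra.Module.LocalizedModule.Exact
import Mathlib.CategoryTheory.Linear.LinearFunctor
import Mathlib.CategoryTheory.Limits.Types.Filtered
import Mathlib.RingTheory.LocalProperties.Exactness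
import Mathlib.RingTheory.Localization.Module

/-!
Linear functors commuting with filtered colimits commute with localization.
-/

set_option autoImplicit false
universe u

open CategoryTheory CategoryTheory.Limits

namespace Groth.L01.FlatCx.LocColim

variable {A : Type u} [CommRing A]

/-- Denominators, ordered by multiplication. -/
structure Den (S : Submonoid A) : Type u where
  /-- the denominator -/
  val : S

variable (S : Submonoid A)

instance : Category.{u} (Den S) where
  Hom a b := { v : S // v * a.val = b.val }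
  id a := ⟨1, one_mul _⟩
  comp f g := ⟨g.1 * f.1, by rw [mul_assoc, f.2, g.2]⟩
  id_comp f := Subtype.ext (mul_one _)
  comp_id f := Subtype.ext (one_mul _)
  assoc f g h := Subtype.ext (mul_assoc _ _ _).symm

instance : IsFiltered (Den S) where
  nonempty := ⟨⟨1⟩⟩
  cocone_objs a b := ⟨⟨b.val * a.val⟩, ⟨b.val, rfl⟩, ⟨a.val, mul_comm _ _⟩, trivial⟩
  cocone_maps a b f g := ⟨⟨a.val * b.val⟩, ⟨a.val, rfl⟩, Subtype.ext (by
    show a.val * f.1 = a.val * g.1
    rw [mul_comm a.val, mul_comm a.val, f.2, g.2])⟩

variable (M : ModuleCat.{u} A)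

/-- The diagram of copies of `M`. -/
noncomputable def diag : Den S ⥤ ModuleCat.{u} A where
  obj _ := M
  map f := ModuleCat.ofHom ((f.1 : A) • LinearMap.id)
  map_id a := by
    ext x
    exact one_smul A x
  map_comp f g := by
    ext x
    show ((g.1 * f.1 : S) : A) • x = (g.1 : A) • (f.1 : A) • x
    rw [Submonoid.coe_mul, mul_smul]

/-- `x ↦ x / s`. -/
noncomputable def leg (a : Den S) : M ⟶ ModuleCat.of A (LocalizedModule S M) :=
  ModuleCat.ofHom (X := (M : Type u)) (Y := LocalizedModule S (M : Type u))
    { toFun := fun x => LocalizedModule.mk x a.val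
      map_add' := fun x y => by
        rw [IsLocalizedModule.mk_eq_mk', IsLocalizedModule.mk_eq_mk', IsLocalizedModule.mk_eq_mk',
          IsLocalizedModule.mk'_add]
      map_smul' := fun r x => (LocalizedModule.smul'_mk r x a.val).symm }

/-- The cocone with point the localization. -/
noncomputable def cocone : Cocone (diag S M) where
  pt := ModuleCat.of A (LocalizedModule S M)
  ι :=
    { app := leg S M
      naturality := fun a b f => by
        ext x
        show LocalizedModule.mk ((f.1 : A) • x) b.val = LocalizedModule.mk x a.val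
        exact (congrArg (LocalizedModule.mk _) f.2.symm).trans
          (LocalizedModule.mk_cancel_common_left f.1 a.val x) }

/-- Localization is a filtered colimit. -/
noncomputable def isColimit : IsColimit (cocone S M) := by
  haveI : ReflectsColimitsOfShape (Den S) (forget (ModuleCat.{u} A)) :=
    reflectsColimitsOfShape_of_reflectsIsomorphisms
  refine isColimitOfReflects (forget (ModuleCat.{u} A)) ?_
  refine Types.FilteredColimit.isColimitOf' _ _ (fun x => ?_) (fun a x y h => ?_)
  · induction x using LocalizedModule.induction_on with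
    | h m s => exact ⟨⟨s⟩, m, rfl⟩
  · obtain ⟨w, hw⟩ := LocalizedModule.mk_eq.mp h
    exact ⟨⟨w * a.val * a.val⟩, ⟨w * a.val, rfl⟩, by
      show ((w * a.val : S) : A) • (x : M) = ((w * a.val : S) : A) • (y : M)
      rw [Submonoid.coe_mul, mul_smul, mul_smul]
      exact hw⟩

/-- Linear functors preserving filtered colimits commute with localization. -/
theorem isLocalizedModule_map (T : ModuleCat.{u} A ⥤ ModuleCat.{u} A) [T.Additive] [T.Linear A]
    (hT : ∀ (J : Type u) [SmallCategory J] [IsFiltered J], PreservesColimitsOfShape J T) :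
    IsLocalizedModule S (T.map (ModuleCat.ofHom (LocalizedModule.mkLinearMap S M) :
      M ⟶ ModuleCat.of A (LocalizedModule S M))).hom := by
  have := hT (Den S)
  have hc := isColimitOfPreserves T (isColimit S M)
  let L := ModuleCat.of A (LocalizedModule S M)
  let μ : M ⟶ L := ModuleCat.ofHom (LocalizedModule.mkLinearMap S M)
  have hsmul : ∀ (r : A) {X Y : ModuleCat.{u} A} (g : X ⟶ Y) (z : T.obj X),
      (T.map (r • g)).hom z = r • (T.map g).hom z := fun r X Y g z => by
    rw [Functor.map_smul]
    rfl
  have hleg : ∀ a : Den S, (a.val : A) • leg S M a = μ := fun a => by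
    ext x
    show (a.val : A) • LocalizedModule.mk x a.val = LocalizedModule.mk x 1
    rw [LocalizedModule.smul'_mk]
    exact LocalizedModule.mk_cancel a.val x
  have hleg1 : leg S M ⟨1⟩ = μ := rfl
  refine ⟨fun s => ?_, fun y => ?_, fun {x y} h => ?_⟩
  · obtain ⟨u, hu⟩ := IsLocalizedModule.map_units (LocalizedModule.mkLinearMap S M) s
    let v : L ⟶ L := ModuleCat.ofHom (↑u⁻¹ : Module.End A (LocalizedModule S M))
    have h1 : (s : A) • v = 𝟙 L := by
      ext x
      show (s : A) • (↑u⁻¹ : Module.End A (LocalizedModule S M)) x = x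
      have h := LinearMap.congr_fun (Units.mul_inv u) x
      rw [hu] at h
      exact h
    have h2 : v ≫ ((s : A) • 𝟙 L) = 𝟙 L := by
      rw [Linear.comp_smul, Category.comp_id, h1]
    rw [Module.End.isUnit_iff]
    refine Function.bijective_iff_has_inverse.mpr ⟨(T.map v).hom, fun x => ?_, fun x => ?_⟩
    · show (T.map v).hom ((s : A) • x) = x
      rw [map_smul, ← hsmul, h1, CategoryTheory.Functor.map_id]
      rfl
    · show (s : A) • (T.map v).hom x = x
      rw [← hsmul, h1, CategoryTheory.Functor.map_id]
      rfl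
  · obtain ⟨a, z, rfl⟩ := Concrete.isColimit_exists_rep _ hc y
    refine ⟨(z, a.val), ?_⟩
    show (a.val : A) • (T.map (leg S M a)).hom z = (T.map μ).hom z
    refine (hsmul (a.val : A) (leg S M a) z).symm.trans ?_
    rw [hleg]
  · have h' : (T.map (leg S M ⟨1⟩)).hom x = (T.map (leg S M ⟨1⟩)).hom y := by rw [hleg1]; exact h
    obtain ⟨b, f, g, hfg⟩ := Concrete.isColimit_exists_of_rep_eq (F := diag S M ⋙ T)
      (i := (⟨1⟩ : Den S)) (j := (⟨1⟩ : Den S)) hc x y h'
    have hfg' : f = g := Subtype.ext (by
      have h1 := f.2.trans g.2.symm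
      rwa [mul_one, mul_one] at h1)
    subst hfg'
    refine ⟨f.1, ?_⟩
    have key : ∀ z : T.obj M, ((diag S M ⋙ T).map f).hom z = (f.1 : A) • z := fun z => by
      show (T.map (ModuleCat.ofHom ((f.1 : A) • LinearMap.id))).hom z = _
      rw [show (ModuleCat.ofHom ((f.1 : A) • LinearMap.id) : M ⟶ M) = (f.1 : A) • 𝟙 M from rfl,
        hsmul, CategoryTheory.Functor.map_id]
      rfl
    exact (key x).symm.trans (hfg.trans (key y))

section AtPrime

variable (m : Ideal A) [m.IsPrime]

/-- Restriction of scalars from `A_m`. -/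
noncomputable abbrev res : ModuleCat.{u} (Localization.AtPrime m) ⥤ ModuleCat.{u} A :=
  ModuleCat.restrictScalars (algebraMap A (Localization.AtPrime m))

/-- `M_m` as an `A_m`-module. -/
noncomputable abbrev locObj (M : ModuleCat.{u} A) : ModuleCat.{u} (Localization.AtPrime m) :=
  ModuleCat.of _ (LocalizedModule m.primeCompl M)

/-- The localization map. -/
noncomputable def toLoc (M : ModuleCat.{u} A) : M ⟶ (res m).obj (locObj m M) :=
  ModuleCat.ofHom (Y := ((res m).obj (locObj m M) : ModuleCat.{u} A))
    { toFun := fun x => (LocalizedModule.mk x 1 : LocalizedModule m.primeCompl M)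
      map_add' := fun x y => (LocalizedModule.mkLinearMap m.primeCompl M).map_add x y
      map_smul' := fun r x => ((LocalizedModule.mkLinearMap m.primeCompl M).map_smul r x).trans
        (IsScalarTower.algebraMap_smul (Localization.AtPrime m) r
          (LocalizedModule.mk x 1 : LocalizedModule m.primeCompl M)).symm }

theorem res_smul (M : Type u) [AddCommGroup M] [Module A M] (r : A)
    (x : LocalizedModule m.primeCompl M) : algebraMap A (Localization.AtPrime m) r • x = r • x :=
  IsScalarTower.algebraMap_smul (Localization.AtPrime m) r x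

/-- The two restrictions of scalars agree. -/
noncomputable def locIso (M : ModuleCat.{u} A) :
    ModuleCat.of A (LocalizedModule m.primeCompl M) ≅ (res m).obj (locObj m M) where
  hom := ModuleCat.ofHom (Y := ((res m).obj (locObj m M) : ModuleCat.{u} A))
    { toFun := fun x => x
      map_add' := fun _ _ => rfl
      map_smul' := fun r x => (res_smul m M r x).symm }
  inv := ModuleCat.ofHom (X := ((res m).obj (locObj m M) : ModuleCat.{u} A))
    (Y := LocalizedModule m.primeCompl (M : Type u))
    { toFun := fun x => x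
      map_add' := fun _ _ => rfl
      map_smul' := fun r x => res_smul m M r x }
  hom_inv_id := by ext; rfl
  inv_hom_id := by ext; rfl

theorem toLoc_eq (M : ModuleCat.{u} A) : ∃ e : ModuleCat.of A (LocalizedModule m.primeCompl M) ≅
    (res m).obj (locObj m M), ModuleCat.ofHom (LocalizedModule.mkLinearMap m.primeCompl M) ≫ e.hom =
      toLoc m M :=
  ⟨locIso m M, by ext; rfl⟩

variable (T : ModuleCat.{u} A ⥤ ModuleCat.{u} A) [T.Additive] [T.Linear A]
    (hT : ∀ (J : Type u) [SmallCategory J] [IsFiltered J], PreservesColimitsOfShape J T)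

include hT in
theorem isLocalizedModule_toLoc (M : ModuleCat.{u} A) :
    IsLocalizedModule m.primeCompl (T.map (toLoc m M)).hom := by
  obtain ⟨e, he⟩ := toLoc_eq m M
  have := isLocalizedModule_map m.primeCompl M T hT
  rw [← he, T.map_comp, ModuleCat.hom_comp]
  exact IsLocalizedModule.of_linearEquiv _ _ (T.mapIso e).toLinearEquiv

/-- The localized morphism. -/
noncomputable def locMap {M N : ModuleCat.{u} A} (f : M ⟶ N) : locObj m M ⟶ locObj m N :=
  ModuleCat.ofHom (LocalizedModule.map m.primeCompl f.hom)

theorem toLoc_naturality {M N : ModuleCat.{u} A} (f : M ⟶ N) :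
    toLoc m M ≫ (res m).map (locMap m f) = f ≫ toLoc m N := by
  ext x
  exact LocalizedModule.map_mk m.primeCompl f.hom x (1 : m.primeCompl)

/-- The localized short complex. -/
noncomputable def locSC (X : ShortComplex (ModuleCat.{u} A)) :
    ShortComplex (ModuleCat.{u} (Localization.AtPrime m)) :=
  ShortComplex.mk (locMap m X.f) (locMap m X.g) (by
    ext x
    induction x using LocalizedModule.induction_on with
    | h y s =>
      show LocalizedModule.map m.primeCompl X.g.hom
        (LocalizedModule.map m.primeCompl X.f.hom (LocalizedModule.mk y s)) = 0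
      rw [LocalizedModule.map_mk, LocalizedModule.map_mk,
        show X.g.hom (X.f.hom y) = 0 from LinearMap.congr_fun (ModuleCat.hom_ext_iff.mp X.zero) y]
      exact LocalizedModule.zero_mk s)

theorem locSC_shortExact (X : ShortComplex (ModuleCat.{u} A)) (hX : X.ShortExact) :
    (locSC m X).ShortExact where
  exact := (ShortComplex.moduleCat_exact_iff _).mpr fun x hx =>
    (LocalizedModule.map_exact m.primeCompl X.f.hom X.g.hom (fun y =>
      ⟨fun hy => (ShortComplex.moduleCat_exact_iff X).mp hX.exact y hy, fun ⟨w, hw⟩ => by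
        rw [← hw]; exact LinearMap.congr_fun (ModuleCat.hom_ext_iff.mp X.zero) w⟩) x).mp hx
  mono_f := (ModuleCat.mono_iff_injective _).mpr (LocalizedModule.map_injective m.primeCompl _
    ((ModuleCat.mono_iff_injective _).mp hX.mono_f))
  epi_g := (ModuleCat.epi_iff_surjective _).mpr (LocalizedModule.map_surjective m.primeCompl _
    ((ModuleCat.epi_iff_surjective _).mp hX.epi_g))

include hT in
theorem map_eq_localized {M N : ModuleCat.{u} A} (f : M ⟶ N) :
    haveI := isLocalizedModule_toLoc m T hT M
    haveI := isLocalizedModule_toLoc m T hT N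
    IsLocalizedModule.map m.primeCompl (T.map (toLoc m M)).hom (T.map (toLoc m N)).hom (T.map f).hom =
      (T.map ((res m).map (locMap m f))).hom := by
  haveI := isLocalizedModule_toLoc m T hT M
  haveI := isLocalizedModule_toLoc m T hT N
  refine IsLocalizedModule.ext m.primeCompl (T.map (toLoc m M)).hom
    (IsLocalizedModule.map_units (T.map (toLoc m N)).hom) ?_
  rw [IsLocalizedModule.map_comp, ← ModuleCat.hom_comp, ← ModuleCat.hom_comp, ← T.map_comp,
    ← T.map_comp, toLoc_naturality]

end AtPrime

section Max

variable (T : ModuleCat.{u} A ⥤ ModuleCat.{u} A) [T.Additive] [T.Linear A]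
    (hT : ∀ (J : Type u) [SmallCategory J] [IsFiltered J], PreservesColimitsOfShape J T)
    (X : ShortComplex (ModuleCat.{u} A))

include hT in
theorem exact_of_locally (h : ∀ (m : Ideal A) [m.IsMaximal], (((locSC m X).map (res m)).map T).Exact) :
    (X.map T).Exact := by
  rw [ShortComplex.moduleCat_exact_iff]
  haveI : ∀ (P : Ideal A) [P.IsMaximal], IsLocalizedModule.AtPrime P (T.map (toLoc P X.X₁)).hom :=
    fun P _ => isLocalizedModule_toLoc P T hT X.X₁
  haveI : ∀ (P : Ideal A) [P.IsMaximal], IsLocalizedModule.AtPrime P (T.map (toLoc P X.X₂)).hom :=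
    fun P _ => isLocalizedModule_toLoc P T hT X.X₂
  haveI : ∀ (P : Ideal A) [P.IsMaximal], IsLocalizedModule.AtPrime P (T.map (toLoc P X.X₃)).hom :=
    fun P _ => isLocalizedModule_toLoc P T hT X.X₃
  have hex : Function.Exact (T.map X.f).hom (T.map X.g).hom := by
    refine @exact_of_isLocalized_maximal A _ _ _ _ _ _ _ _ _ _ _ _ _ (fun P _ => (T.map (toLoc P X.X₁)).hom) (fun P _ => isLocalizedModule_toLoc P T hT X.X₁)
      _ _ _ (fun P _ => (T.map (toLoc P X.X₂)).hom) (fun P _ => isLocalizedModule_toLoc P T hT X.X₂) _ _ _ (fun P _ => (T.map (toLoc P X.X₃)).hom) (fun P _ => isLocalizedModule_toLoc P T hT X.X₃) _ _ fun P _ => ?_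
    rw [map_eq_localized P T hT, map_eq_localized P T hT]
    intro y
    refine ⟨fun hy => (ShortComplex.moduleCat_exact_iff _).mp (h P) y hy, fun ⟨w, hw⟩ => ?_⟩
    rw [← hw]
    exact LinearMap.congr_fun (ModuleCat.hom_ext_iff.mp (((locSC P X).map (res P)).map T).zero) w
  exact fun y hy => (hex y).mp hy

include hT in
theorem mono_of_locally {M N : ModuleCat.{u} A} (f : M ⟶ N)
    (h : ∀ (m : Ideal A) [m.IsMaximal], Mono (T.map ((res m).map (locMap m f)))) : Mono (T.map f) := by
  haveI : ∀ (P : Ideal A) [P.IsMaximal], IsLocalizedModule.AtPrime P (T.map (toLoc P M)).hom :=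
    fun P _ => isLocalizedModule_toLoc P T hT M
  haveI : ∀ (P : Ideal A) [P.IsMaximal], IsLocalizedModule.AtPrime P (T.map (toLoc P N)).hom :=
    fun P _ => isLocalizedModule_toLoc P T hT N
  refine (ModuleCat.mono_iff_injective _).mpr (@injective_of_isLocalized_maximal A _ _ _ _ _ _ _ _ _ _ (fun P _ => (T.map (toLoc P M)).hom) (fun P _ => isLocalizedModule_toLoc P T hT M)
    _ _ _ (fun P _ => (T.map (toLoc P N)).hom) (fun P _ => isLocalizedModule_toLoc P T hT N) _ fun P _ => ?_)
  rw [map_eq_localized P T hT]
  exact (ModuleCat.mono_iff_injective _).mp (h P)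

include hT in
theorem epi_of_locally {M N : ModuleCat.{u} A} (f : M ⟶ N)
    (h : ∀ (m : Ideal A) [m.IsMaximal], Epi (T.map ((res m).map (locMap m f)))) : Epi (T.map f) := by
  haveI : ∀ (P : Ideal A) [P.IsMaximal], IsLocalizedModule.AtPrime P (T.map (toLoc P M)).hom :=
    fun P _ => isLocalizedModule_toLoc P T hT M
  haveI : ∀ (P : Ideal A) [P.IsMaximal], IsLocalizedModule.AtPrime P (T.map (toLoc P N)).hom :=
    fun P _ => isLocalizedModule_toLoc P T hT N
  refine (ModuleCat.epi_iff_surjective _).mpr (@surjective_of_isLocalized_maximal A _ _ _ _ _ _ _ _ _ _ (fun P _ => (T.map (toLoc P M)).hom) (fun P _ => isLocalizedModule_toLoc P T hT M)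
    _ _ _ (fun P _ => (T.map (toLoc P N)).hom) (fun P _ => isLocalizedModule_toLoc P T hT N) _ fun P _ => ?_)
  rw [map_eq_localized P T hT]
  exact (ModuleCat.epi_iff_surjective _).mp (h P)

include hT in
theorem preservesFiniteLimits_of_locally
    (h : ∀ (m : Ideal A) [m.IsMaximal], PreservesFiniteLimits (res m ⋙ T)) : PreservesFiniteLimits T := by
  rw [Functor.preservesFiniteLimits_iff_forall_exact_map_and_mono]
  intro X hX
  have hl := fun (m : Ideal A) [m.IsMaximal] =>
    (Functor.preservesFiniteLimits_iff_forall_exact_map_and_mono (res m ⋙ T)).mp (h m) _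
      (locSC_shortExact m X hX)
  exact ⟨exact_of_locally T hT X fun m _ => (hl m).1, mono_of_locally T hT X.f fun m _ => (hl m).2⟩

include hT in
theorem preservesFiniteColimits_of_locally
    (h : ∀ (m : Ideal A) [m.IsMaximal], PreservesFiniteColimits (res m ⋙ T)) :
    PreservesFiniteColimits T := by
  rw [Functor.preservesFiniteColimits_iff_forall_exact_map_and_epi]
  intro X hX
  have hl := fun (m : Ideal A) [m.IsMaximal] =>
    (Functor.preservesFiniteColimits_iff_forall_exact_map_and_epi (res m ⋙ T)).mp (h m) _
      (locSC_shortExact m X hX)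
  exact ⟨exact_of_locally T hT X fun m _ => (hl m).1, epi_of_locally T hT X.g fun m _ => (hl m).2⟩

end Max

end Groth.L01.FlatCx.LocColim
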