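import Groth.Agent.L01.FlatCx.Seq
import Mathlib.RingTheory.LocalRing.Module
import Mathlib.RingTheory.Filtration
import Mathlib.LinearAlgebra.TensorProduct.Quotient

/-!
Finitely generated terms over a local ring: surjectivity at the residue field gives a free cokernel.
-/

set_option autoImplicit false
universe u

open CategoryTheory CategoryTheory.Limits MonoidalCategory
open scoped TensorProduct

namespace Groth.L01.FlatCx

variable {A : Type u} [CommRing A] {ι : Type} {c : ComplexShape ι}
  (P : HomologicalComplex (ModuleCat.{u} A) c)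

/-- The cycle `x ⊗ 1`. -/
lemma mem_Cyc_one {j k : ι} (hk : c.next j = k) (I : Ideal A) (x : P.X j)
    (hx : dd P j k x ∈ I • (⊤ : Submodule A (P.X k))) :
    (x ⊗ₜ[A] (1 : A ⧸ I)) ∈ Cyc P j (ModuleCat.of A (A ⧸ I)) := by
  subst hk
  show dd P j (c.next j) x ⊗ₜ[A] (1 : A ⧸ I) = 0
  refine (TensorProduct.tensorQuotEquivQuotSMul (P.X (c.next j)) I).injective ?_
  rw [map_zero, show (1 : A ⧸ I) = Ideal.Quotient.mk I 1 from rfl,
    TensorProduct.tensorQuotEquivQuotSMul_tmul_mk, one_smul, Submodule.Quotient.mk_eq_zero]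
  exact hx

section local_ring

variable [IsLocalRing A]

open IsLocalRing

/-- Surjectivity at the residue field makes the next cokernel free. -/
theorem free_coker_of_surjective_residue {j k : ι} (hk : c.next j = k) (hkj : c.prev k = j)
    [Module.Finite A (P.X j)] [Module.Finite A (P.X k)] [Module.Flat A (P.X k)]
    (h : Function.Surjective ((CohIII.TFun P j).map
      (ModuleCat.ofHom (Algebra.linearMap A (ResidueField A)))).hom) :
    Module.Free A (Coker P j k) := by
  subst hk
  have : Module.Free A (P.X (c.next j)) := Module.free_of_flat_of_isLocalRing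
  let I := LinearMap.range (dd P j (c.next j))
  have : Module.Finite A I := Module.Finite.range _
  refine Module.free_of_lTensor_residueField_injective I.subtype I.mkQ (Submodule.mkQ_surjective _)
    (LinearMap.exact_subtype_mkQ I) ?_
  rw [LinearMap.lTensor_inj_iff_rTensor_inj]
  refine (injective_iff_map_eq_zero _).mpr fun z hz => ?_
  let r : (P.X j : Type u) →ₗ[A] I := (dd P j (c.next j)).rangeRestrict
  obtain ⟨w, rfl⟩ := LinearMap.rTensor_surjective (ResidueField A)
    (LinearMap.surjective_rangeRestrict (dd P j (c.next j))) z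
  rw [← LinearMap.comp_apply, ← LinearMap.rTensor_comp] at hz
  obtain ⟨a, ha⟩ := h (cls P j (ModuleCat.of A (ResidueField A)) ⟨w, hz⟩)
  obtain ⟨x', rfl⟩ := cls_surjective P j _ a
  rw [map_cls, ← sub_eq_zero, ← map_sub, cls_eq_zero_iff P (i := c.prev j) rfl] at ha
  obtain ⟨y, hy⟩ := ha
  rw [Submodule.coe_sub, cycMap_coe] at hy
  have hw : w = (Algebra.linearMap A (ResidueField A)).lTensor (P.X j) x'.1 -
      (dd P (c.prev j) j).rTensor _ y := by
    rw [hy]; exact (sub_sub_cancel _ _).symm
  have h1 : r.rTensor A x'.1 = 0 := by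
    refine Module.Flat.rTensor_preserves_injective_linearMap (M := A) I.subtype
      (Submodule.injective_subtype _) ?_
    rw [map_zero, ← LinearMap.comp_apply, ← LinearMap.rTensor_comp]
    exact x'.2
  show r.rTensor _ w = 0
  rw [hw, map_sub, ← lTensor_rTensor, h1, map_zero, ← LinearMap.comp_apply,
    ← LinearMap.rTensor_comp, show r ∘ₗ dd P (c.prev j) j = 0 from
      LinearMap.ext fun v => Subtype.ext (dd_dd P _ _ _ v), LinearMap.rTensor_zero]
  exact sub_self 0

/-- Right exactness is tested at the residue field. -/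
theorem preservesEpi_iff_surjective_residue {j k : ι} (hk : c.next j = k) (hkj : c.prev k = j)
    (hP : ∀ i, Module.Flat A (P.X i)) [Module.Finite A (P.X j)] [Module.Finite A (P.X k)] :
    (CohIII.TFun P j).PreservesEpimorphisms ↔
      Function.Surjective ((CohIII.TFun P j).map
        (ModuleCat.ofHom (Algebra.linearMap A (ResidueField A)))).hom := by
  constructor
  · intro h
    have : Epi (ModuleCat.ofHom (Algebra.linearMap A (ResidueField A))) :=
      (ModuleCat.epi_iff_surjective _).mpr residue_surjective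
    exact (ModuleCat.epi_iff_surjective _).mp (Functor.map_epi (CohIII.TFun P j) _)
  · intro h
    have := hP k
    have := free_coker_of_surjective_residue P hk hkj h
    rw [preservesEpi_iff P hk hkj hP]
    infer_instance

/-- For `n` large, lifting to `A/m^(n+1)` suffices. -/
theorem exists_forall_surjective_residue {j k : ι} (hk : c.next j = k) [IsNoetherianRing A]
    [Module.Finite A (P.X k)] :
    ∃ n₀ : ℕ, ∀ n ≥ n₀, Function.Surjective ((CohIII.TFun P j).map (ModuleCat.ofHom
        (Ideal.Quotient.factorₐ A (Ideal.pow_le_self (I := maximalIdeal A)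
          (Nat.succ_ne_zero n))).toLinearMap :
        ModuleCat.of A (A ⧸ maximalIdeal A ^ (n + 1)) ⟶ ModuleCat.of A (A ⧸ maximalIdeal A))).hom →
      Function.Surjective ((CohIII.TFun P j).map
        (ModuleCat.ofHom (Algebra.linearMap A (ResidueField A)))).hom := by
  subst hk
  obtain ⟨r, hr⟩ := (maximalIdeal A).exists_pow_inf_eq_pow_smul (LinearMap.range (dd P j (c.next j)))
  refine ⟨r, fun n hn hs a => ?_⟩
  obtain ⟨b, rfl⟩ := hs a
  obtain ⟨x, rfl⟩ := cls_surjective P j _ b
  obtain ⟨x', hx'⟩ : ∃ x' : P.X j, x' ⊗ₜ[A] (1 : A ⧸ maximalIdeal A ^ (n + 1)) = x.1 := by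
    obtain ⟨q, hq⟩ := Submodule.mkQ_surjective _
      (TensorProduct.tensorQuotEquivQuotSMul (P.X j) (maximalIdeal A ^ (n + 1)) x.1)
    refine ⟨q, ?_⟩
    rw [← TensorProduct.tensorQuotEquivQuotSMul_symm_mk, LinearEquiv.symm_apply_eq]
    exact hq
  have hd : dd P j (c.next j) x' ∈ maximalIdeal A ^ (n + 1) • (⊤ : Submodule A _) := by
    have hx : dd P j (c.next j) x' ⊗ₜ[A] (1 : A ⧸ maximalIdeal A ^ (n + 1)) = 0 :=
      (congrArg ((dd P j (c.next j)).rTensor (A ⧸ maximalIdeal A ^ (n + 1))) hx').trans x.2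
    rw [← Submodule.Quotient.mk_eq_zero, ← one_smul A (dd P j (c.next j) x'),
      ← TensorProduct.tensorQuotEquivQuotSMul_tmul_mk, map_one, hx, map_zero]
  have hd' : dd P j (c.next j) x' ∈ Submodule.map (dd P j (c.next j)) (maximalIdeal A • ⊤) := by
    rw [Submodule.map_smul'', Submodule.map_top]
    have : dd P j (c.next j) x' ∈
        maximalIdeal A ^ (n + 1) • ⊤ ⊓ LinearMap.range (dd P j (c.next j)) := ⟨hd, x', rfl⟩
    rw [hr (n + 1) (by omega)] at this
    exact Submodule.smul_mono (Ideal.pow_le_self (by omega)) inf_le_right this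
  obtain ⟨y, hy, hyd⟩ := hd'
  have hc : (x' - y) ⊗ₜ[A] (1 : A) ∈ Cyc P j (ModuleCat.of A A) := by
    show dd P j (c.next j) (x' - y) ⊗ₜ[A] (1 : A) = 0
    rw [map_sub, hyd, sub_self, TensorProduct.zero_tmul]
  refine ⟨cls P j _ ⟨_, hc⟩, ?_⟩
  rw [map_cls, map_cls]
  refine congrArg _ (Subtype.ext ?_)
  rw [cycMap_coe, cycMap_coe, ← hx']
  show (x' - y) ⊗ₜ[A] (algebraMap A (ResidueField A) 1) =
    x' ⊗ₜ[A] (Ideal.Quotient.factorₐ A (Ideal.pow_le_self (I := maximalIdeal A) (Nat.succ_ne_zero n)) (1 : A ⧸ maximalIdeal A ^ (n + 1)))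
  have key : y ⊗ₜ[A] (1 : A ⧸ maximalIdeal A) = 0 := by
    refine (TensorProduct.tensorQuotEquivQuotSMul (P.X j) (maximalIdeal A)).injective ?_
    rw [map_zero, show (1 : A ⧸ maximalIdeal A) = Ideal.Quotient.mk (maximalIdeal A) 1 from rfl,
      TensorProduct.tensorQuotEquivQuotSMul_tmul_mk, one_smul, Submodule.Quotient.mk_eq_zero]
    exact hy
  rw [map_one, map_one]
  show (x' - y) ⊗ₜ[A] (1 : A ⧸ maximalIdeal A) = x' ⊗ₜ[A] (1 : A ⧸ maximalIdeal A)
  rw [TensorProduct.sub_tmul, key, sub_zero]

end local_ring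

/-- Homology of a complex with finite term is finite over a noetherian ring. -/
theorem finite_TFun_obj [IsNoetherianRing A] (j : ι) [Module.Finite A (P.X j)] (M : ModuleCat.{u} A)
    [Module.Finite A M] : Module.Finite A ((CohIII.TFun P j).obj M) :=
  Module.Finite.of_surjective (cls P j M) (cls_surjective P j M)

/-- Vanishing at the residue field is vanishing. -/
theorem isZero_of_isZero_residue [IsNoetherianRing A] [IsLocalRing A] {j k : ι} (hk : c.next j = k)
    (hkj : c.prev k = j) (hP : ∀ i, Module.Flat A (P.X i)) [Module.Finite A (P.X j)]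
    [Module.Finite A (P.X k)]
    (h : IsZero ((CohIII.TFun P j).obj (ModuleCat.of A (IsLocalRing.ResidueField A))))
    (M : ModuleCat.{u} A) : IsZero ((CohIII.TFun P j).obj M) := by
  have hs : Subsingleton ((CohIII.TFun P j).obj (ModuleCat.of A (IsLocalRing.ResidueField A))) :=
    ModuleCat.subsingleton_of_isZero h
  have := (preservesEpi_iff_surjective_residue P hk hkj hP).mpr
    fun a => ⟨0, Subsingleton.elim _ _⟩
  have := finite_TFun_obj P j (ModuleCat.of A A)
  have h2 : Subsingleton ((IsLocalRing.ResidueField A) ⊗[A]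
      ((CohIII.TFun P j).obj (ModuleCat.of A A) : Type u)) :=
    ((TensorProduct.comm A _ _).toEquiv.trans
      (Equiv.ofBijective _ (bijective_of_preservesEpi P j hP
        (ModuleCat.of A (IsLocalRing.ResidueField A))))).subsingleton
  have h3 : Subsingleton ((CohIII.TFun P j).obj (ModuleCat.of A A)) :=
    IsLocalRing.subsingleton_tensorProduct.mp h2
  have : Subsingleton ((CohIII.TFun P j).obj M) :=
    (Equiv.ofBijective _ (bijective_of_preservesEpi P j hP M)).symm.subsingleton
  exact ModuleCat.isZero_of_subsingleton _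

end Groth.L01.FlatCx
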