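import Groth.Agent.L01.FlatCx.BC
import Groth.Agent.L02.FlatDVR
import Mathlib.RingTheory.Spectrum.Prime.Module
import Mathlib.RingTheory.Spectrum.Prime.FreeLocus
import Mathlib.RingTheory.Ideal.MinimalPrime.Localization

/-!
The function `x ↦ dim H_j(P ⊗ k(x))`.
-/

set_option autoImplicit false
universe u

open CategoryTheory CategoryTheory.Limits MonoidalCategory
open scoped TensorProduct
open Groth.L02.FlatDVR Filter Topology

namespace Groth.L01.FlatCx

variable {A : Type u} [CommRing A]

/-- Fibre dimension. -/
noncomputable abbrev mu (M : Type u) [AddCommGroup M] [Module A M] (x : PrimeSpectrum A) : ℕ :=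
  dimAt (A := A) M x.asIdeal.ResidueField

section Module

variable (M : Type u) [AddCommGroup M] [Module A M]

theorem mu_eq_rankAtStalk [Module.Finite A M] [Module.Flat A M] (x : PrimeSpectrum A) :
    mu M x = Module.rankAtStalk M x := (Module.rankAtStalk_eq x).symm

theorem exists_bound_mu [Module.Finite A M] : ∃ n, ∀ x : PrimeSpectrum A, mu M x ≤ n := by
  obtain ⟨n, s, hs⟩ := Module.Finite.exists_fin' A M
  refine ⟨n, fun x => ?_⟩
  have : Nontrivial A := (algebraMap A x.asIdeal.ResidueField).domain_nontrivial
  have hs' : Function.Surjective (s.baseChange x.asIdeal.ResidueField) := by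
    rw [LinearMap.baseChange_eq_ltensor]
    exact LinearMap.lTensor_surjective _ hs
  refine (LinearMap.finrank_le_finrank_of_surjective hs').trans (le_of_eq ?_)
  rw [Module.finrank_baseChange, Module.finrank_fin_fun]

theorem mu_eventually_le [Module.Finite A M] (x : PrimeSpectrum A) :
    ∀ᶠ y in 𝓝 x, mu M y ≤ mu M x := by
  classical
  let k := x.asIdeal.ResidueField
  let S : Submodule k (k ⊗[A] M) := Submodule.span k (Set.range fun m : M => (1 : k) ⊗ₜ[A] m)
  have hS : S = ⊤ := by
    refine eq_top_iff.mpr fun z htop => ?_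
    clear htop
    induction z using TensorProduct.induction_on with
    | zero => exact zero_mem _
    | tmul a m =>
      rw [show a ⊗ₜ[A] m = a • ((1 : k) ⊗ₜ[A] m) by rw [TensorProduct.smul_tmul', smul_eq_mul, mul_one]]
      exact S.smul_mem a (Submodule.subset_span ⟨m, rfl⟩)
    | add a b ha hb => exact add_mem ha hb
  obtain ⟨f, hf, hspan, -⟩ := Submodule.exists_fun_fin_finrank_span_eq k
    (Set.range fun m : M => (1 : k) ⊗ₜ[A] m)
  choose v hv using hf
  have hspan' : Submodule.span k (Set.range f) = ⊤ := hspan.trans hS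
  let N := Submodule.span A (Set.range v)
  have : Module.Finite A N := Module.Finite.span_of_finite A (Set.finite_range v)
  have hx : x ∉ Module.support A (M ⧸ N) := by
    rw [Module.mem_support_iff_nontrivial_residueField_tensorProduct, not_nontrivial_iff_subsingleton]
    refine subsingleton_of_forall_eq 0 fun z => ?_
    obtain ⟨z, rfl⟩ := LinearMap.lTensor_surjective k N.mkQ_surjective z
    have hz : z ∈ Submodule.span k (Set.range f) := hspan'.symm ▸ Submodule.mem_top
    show N.mkQ.baseChange k z = 0
    refine LinearMap.mem_ker.mp ((Submodule.span_le.mpr ?_ : _ ≤ LinearMap.ker (N.mkQ.baseChange k)) hz)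
    rintro _ ⟨i, rfl⟩
    rw [SetLike.mem_coe, LinearMap.mem_ker, ← hv i, LinearMap.baseChange_tmul, Submodule.mkQ_apply,
      (Submodule.Quotient.mk_eq_zero N).mpr (Submodule.subset_span ⟨i, rfl⟩), TensorProduct.tmul_zero]
  filter_upwards [(Module.isClosed_support (R := A) (M := M ⧸ N)).isOpen_compl.mem_nhds hx] with y hy
  let k' := y.asIdeal.ResidueField
  have hsub : Subsingleton (k' ⊗[A] (M ⧸ N)) := by
    rw [← not_nontrivial_iff_subsingleton, ← Module.mem_support_iff_nontrivial_residueField_tensorProduct]
    exact hy
  have hsurj : Function.Surjective (Fintype.linearCombination k' fun i => (1 : k') ⊗ₜ[A] v i) := by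
    rw [← LinearMap.range_eq_top, Fintype.range_linearCombination, eq_top_iff]
    intro z htop
    clear htop
    obtain ⟨w, rfl⟩ := ((lTensor_exact k' (f := N.subtype) (g := N.mkQ)
      (LinearMap.exact_subtype_mkQ N) N.mkQ_surjective) z).mp (Subsingleton.elim _ _)
    induction w using TensorProduct.induction_on with
    | zero => rw [map_zero]; exact zero_mem _
    | tmul a n =>
      rw [LinearMap.lTensor_tmul,
        show a ⊗ₜ[A] N.subtype n = a • ((1 : k') ⊗ₜ[A] (n : M)) by
          rw [TensorProduct.smul_tmul', smul_eq_mul, mul_one]; rfl]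
      refine Submodule.smul_mem _ a ?_
      have h1 : Submodule.span A (Set.range v) ≤ Submodule.comap (TensorProduct.mk A k' M 1)
          ((Submodule.span k' (Set.range fun i => (1 : k') ⊗ₜ[A] v i)).restrictScalars A) :=
        Submodule.span_le.mpr (by rintro _ ⟨i, rfl⟩; exact Submodule.subset_span ⟨i, rfl⟩)
      exact h1 n.2
    | add a b ha hb => rw [map_add]; exact add_mem ha hb
  refine (LinearMap.finrank_le_finrank_of_surjective hsurj).trans (le_of_eq ?_)
  rw [Module.finrank_fin_fun]
  exact (congrArg (fun S : Submodule k (k ⊗[A] M) => Module.finrank k S) hS).trans (finrank_top _ _)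

theorem mu_le_of_le [Module.Finite A M] {x y : PrimeSpectrum A} (h : x ≤ y) : mu M x ≤ mu M y := by
  obtain ⟨U, hU, hUo, hy⟩ := _root_.eventually_nhds_iff.mp (mu_eventually_le M y)
  exact hU x ((PrimeSpectrum.le_iff_specializes x y).mp h |>.mem_open hUo hy)

/-- Field extensions do not change fibre dimensions. -/
theorem dimAt_comap {A' : Type u} [CommRing A'] [Algebra A A'] (x' : PrimeSpectrum A')
    [Algebra A x'.asIdeal.ResidueField] [IsScalarTower A A' x'.asIdeal.ResidueField] :
    dimAt (A := A) M x'.asIdeal.ResidueField = mu M (PrimeSpectrum.comap (algebraMap A A') x') := by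
  let x := PrimeSpectrum.comap (algebraMap A A') x'
  let f : x.asIdeal.ResidueField →+* x'.asIdeal.ResidueField :=
    Ideal.ResidueField.lift _ (algebraMap A x'.asIdeal.ResidueField) (fun a ha => by
      rw [RingHom.mem_ker, IsScalarTower.algebraMap_apply A A' x'.asIdeal.ResidueField]
      exact Ideal.algebraMap_residueField_eq_zero.mpr ha) (fun a ha => by
      rw [Submonoid.mem_comap, IsUnit.mem_submonoid_iff, isUnit_iff_ne_zero,
        IsScalarTower.algebraMap_apply A A' x'.asIdeal.ResidueField]
      exact fun h => ha (show algebraMap A A' a ∈ x'.asIdeal from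
        Ideal.algebraMap_residueField_eq_zero.mp h))
  letI := f.toAlgebra
  haveI : IsScalarTower A x.asIdeal.ResidueField x'.asIdeal.ResidueField :=
    .of_algebraMap_eq fun a => (Ideal.ResidueField.lift_algebraMap _ _ _ _ a).symm
  exact dimAt_tower M _ _

theorem mu_baseChange (A' : Type u) [CommRing A'] [Algebra A A'] (x' : PrimeSpectrum A') :
    mu (A' ⊗[A] M) x' = mu M (PrimeSpectrum.comap (algebraMap A A') x') := by
  exact (dimAt_baseChange M A' x'.asIdeal.ResidueField).trans (dimAt_comap M x')

/-- Over a reduced local ring, equality at the minimal primes is freeness. -/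
theorem free_of_mu_minimal [IsLocalRing A] [IsReduced A] [Module.Finite A M]
    (h : ∀ q : PrimeSpectrum A, q.asIdeal ∈ minimalPrimes A →
      mu M q = mu M (IsLocalRing.closedPoint A)) : Module.Free A M := by
  refine free_of_dimAt_eq M fun q _ => ?_
  have hc : mu M (IsLocalRing.closedPoint A) = dimAt (A := A) M (IsLocalRing.ResidueField A) := by
    let f : IsLocalRing.ResidueField A →+* (IsLocalRing.closedPoint A).asIdeal.ResidueField :=
      Ideal.Quotient.lift _ (algebraMap A (IsLocalRing.closedPoint A).asIdeal.ResidueField)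
        fun a ha => Ideal.algebraMap_residueField_eq_zero.mpr ha
    letI := f.toAlgebra
    haveI : IsScalarTower A (IsLocalRing.ResidueField A)
      (IsLocalRing.closedPoint A).asIdeal.ResidueField := .of_algebraMap_eq fun _ => rfl
    exact dimAt_tower M _ _
  rw [← hc]
  obtain ⟨p, hp, hpq⟩ := Ideal.exists_minimalPrimes_le (I := ⊥) (J := q) bot_le
  have hp' : p.IsPrime := hp.1.1
  have h2 : mu M ⟨q, inferInstance⟩ ≤ mu M (IsLocalRing.closedPoint A) :=
    mu_le_of_le M (IsLocalRing.le_maximalIdeal (Ideal.IsPrime.ne_top inferInstance))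
  have h1 : mu M ⟨p, hp'⟩ ≤ mu M ⟨q, inferInstance⟩ := mu_le_of_le M hpq
  rw [h ⟨p, hp'⟩ hp] at h1
  exact le_antisymm h2 h1

/-- Over a reduced ring, locally constant fibre dimension is flatness. -/
theorem flat_of_isLocallyConstant [IsReduced A] [Module.Finite A M]
    (h : IsLocallyConstant (mu (A := A) M)) : Module.Flat A M := by
  refine Module.flat_of_localized_maximal M fun P hP => ?_
  let T := Localization.AtPrime P
  have : IsReduced T := isReduced_localizationPreserves P.primeCompl T inferInstance
  have : Module.Free T (T ⊗[A] M) := free_of_mu_minimal _ fun q _ => by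
    rw [mu_baseChange, mu_baseChange]
    obtain ⟨U, hU, hcU, hconst⟩ := (IsLocallyConstant.iff_exists_open _).mp h
      (PrimeSpectrum.comap (algebraMap A T) (IsLocalRing.closedPoint T))
    refine hconst _ (((PrimeSpectrum.le_iff_specializes _ _).mp ?_).mem_open hU hcU)
    exact Ideal.comap_mono (IsLocalRing.le_maximalIdeal (Ideal.IsPrime.ne_top q.2))
  have : Module.Flat A T := IsLocalization.flat T P.primeCompl
  have : Module.Flat A (T ⊗[A] M) := Module.Flat.trans A T _
  exact Module.Flat.of_linearEquiv
    ((LocalizedModule.equivTensorProduct P.primeCompl M).restrictScalars A)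

theorem isLocallyConstant_mu [Module.FinitePresentation A M] [Module.Flat A M] :
    IsLocallyConstant (mu (A := A) M) := by
  rw [show (mu (A := A) M) = Module.rankAtStalk M from funext (mu_eq_rankAtStalk M)]
  exact Module.isLocallyConstant_rankAtStalk

end Module

/-- Two upper semicontinuous functions with locally constant sum are locally constant. -/
theorem eventually_eq_of_add {X : Type*} [TopologicalSpace X] {f g : X → ℕ} {z : X}
    (hf : ∀ᶠ x in 𝓝 z, f x ≤ f z) (hg : ∀ᶠ x in 𝓝 z, g x ≤ g z)
    (h : ∀ᶠ x in 𝓝 z, f z + g z ≤ f x + g x) :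
    (∀ᶠ x in 𝓝 z, f x = f z) ∧ ∀ᶠ x in 𝓝 z, g x = g z := by
  constructor <;> filter_upwards [hf, hg, h] with x h1 h2 h3 <;> omega

variable {ι : Type} {c : ComplexShape ι} (P : HomologicalComplex (ModuleCat.{u} A) c)

/-- Over a field: the dimension of homology. -/
theorem finrank_homology_field {k : Type u} [Field k] (K : HomologicalComplex (ModuleCat.{u} k) c)
    {i j l : ι} (hi : c.prev j = i) (hl : c.next j = l) [Module.Finite k (K.X j)]
    [Module.Finite k (K.X l)] :
    Module.finrank k (K.homology j) + Module.finrank k (K.X l) =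
      Module.finrank k (Coker K i j) + Module.finrank k (Coker K j l) := by
  obtain ⟨f, hf, hex⟩ := exists_homology_toCoker K hi hl
  have h1 := (qr K i j l).finrank_range_add_finrank_ker
  rw [LinearMap.range_eq_top.mpr (qr_surjective K i j l), finrank_top, hex.linearMap_ker_eq,
    LinearMap.finrank_range_of_inj hf, (unitEquiv K j).finrank_eq] at h1
  have h2 : Module.finrank k (Coker K j l) + Module.finrank k (LinearMap.range (dd K j l)) =
      Module.finrank k (K.X l) := Submodule.finrank_quotient_add_finrank _
  omega

/-- `d_j + rank P_l = μ(Coker_{ij}) + μ(Coker_{jl})`. -/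
theorem dRank_add_mu {i j l : ι} (hi : c.prev j = i) (hl : c.next j = l) [Module.Finite A (P.X j)]
    [Module.Finite A (P.X l)] (x : PrimeSpectrum A) :
    CohIII.dRank P j x + mu (P.X l) x = mu (Coker P i j) x + mu (Coker P j l) x := by
  let k := x.asIdeal.ResidueField
  have := finite_bc k P j
  have := finite_bc k P l
  have h := finrank_homology_field (bc k P) hi hl
  obtain ⟨e1⟩ := nonempty_coker_bc k P i j
  obtain ⟨e2⟩ := nonempty_coker_bc k P j l
  rw [e1.finrank_eq, e2.finrank_eq] at h
  rw [show Module.finrank k ((bc k P).X l) = mu (P.X l) x from (bcE k (P.X l)).finrank_eq] at h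
  exact h

/-- With right exactness, the dimension is that of the fibre of homology. -/
theorem dRank_eq_mu (j : ι) (hP : ∀ i, Module.Flat A (P.X i))
    [(CohIII.TFun P j).PreservesEpimorphisms] (x : PrimeSpectrum A) :
    CohIII.dRank P j x = mu ((CohIII.TFun P j).obj (ModuleCat.of A A) : Type u) x := by
  obtain ⟨e⟩ := nonempty_homology_bc x.asIdeal.ResidueField P j
    (bijective_of_preservesEpi P j hP _)
  exact e.finrank_eq

/-- Iterated base change. -/
theorem nonempty_bc_comp (B C : Type u) [CommRing B] [CommRing C] [Algebra A B] [Algebra B C]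
    [Algebra A C] [IsScalarTower A B C] (j : ι) :
    Nonempty (((bc C (bc B P)).homology j : Type u) ≃ₗ[C] ((bc C P).homology j : Type u)) := by
  have h : algebraMap A C = (algebraMap B C).comp (algebraMap A B) :=
    IsScalarTower.algebraMap_eq A B C
  unfold bc CohIII.bcCx
  rw [h]
  exact ⟨((HomologicalComplex.homologyFunctor (ModuleCat.{u} C) c j).mapIso
    ((Functor.mapHomologicalComplexCompIso
      (ModuleCat.extendScalarsComp (algebraMap A B) (algebraMap B C)).symm c).app P)).toLinearEquiv⟩

/-- `d_j` does not change under base change. -/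
theorem dRank_baseChange {A' : Type u} [CommRing A'] [Algebra A A'] (j : ι)
    (x' : PrimeSpectrum A') :
    CohIII.dRank (bc A' P) j x' = CohIII.dRank P j (PrimeSpectrum.comap (algebraMap A A') x') := by
  let x := PrimeSpectrum.comap (algebraMap A A') x'
  let k := x.asIdeal.ResidueField
  let k' := x'.asIdeal.ResidueField
  let f : k →+* k' :=
    Ideal.ResidueField.lift _ (algebraMap A k') (fun a ha => by
      rw [RingHom.mem_ker, IsScalarTower.algebraMap_apply A A' k']
      exact Ideal.algebraMap_residueField_eq_zero.mpr ha) (fun a ha => by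
      rw [Submonoid.mem_comap, IsUnit.mem_submonoid_iff, isUnit_iff_ne_zero,
        IsScalarTower.algebraMap_apply A A' k']
      exact fun h => ha (show algebraMap A A' a ∈ x'.asIdeal from
        Ideal.algebraMap_residueField_eq_zero.mp h))
  letI := f.toAlgebra
  haveI : IsScalarTower A k k' :=
    .of_algebraMap_eq fun a => (Ideal.ResidueField.lift_algebraMap _ _ _ _ a).symm
  obtain ⟨e1⟩ := nonempty_bc_comp P A' k' j
  obtain ⟨e2⟩ := nonempty_bc_comp P k k' j
  obtain ⟨e3⟩ := nonempty_homology_bc k' (bc k P) j
    (bijective_tMap_of_flat (bc k P) j (ModuleCat.of k k'))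
  show Module.finrank k' ((bc k' (bc A' P)).homology j) = Module.finrank k ((bc k P).homology j)
  rw [e1.finrank_eq, ← e2.finrank_eq, e3.finrank_eq, Module.finrank_baseChange,
    (unitEquiv (bc k P) j).finrank_eq]

end Groth.L01.FlatCx
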