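import Groth.Agent.L01.FlatCx.Fun

/-!
The sequence `0 → H_j → Coker_{ij} → P_k → Coker_{jk} → 0` and flatness in short exact sequences.
-/

set_option autoImplicit false
universe u

open CategoryTheory CategoryTheory.Limits MonoidalCategory
open scoped TensorProduct

namespace Groth.L01.FlatCx

variable {A : Type u} [CommRing A]

section Ext

variable {X Y R : Type u} [AddCommGroup X] [Module A X] [AddCommGroup Y] [Module A Y] [AddCommGroup R]
  [Module A R] {f : X →ₗ[A] Y} {g : Y →ₗ[A] R}

/-- A short exact sequence with flat quotient stays exact after tensoring. -/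
theorem rTensor_injective_of_flat_quot [Module.Flat A R] (hf : Function.Injective f)
    (hg : Function.Surjective g) (hfg : Function.Exact f g) (N : Type u) [AddCommGroup N] [Module A N] :
    Function.Injective (f.rTensor N) := by
  refine (injective_iff_map_eq_zero _).mpr fun z hz => ?_
  let π : (N →₀ A) →ₗ[A] N := Finsupp.linearCombination A (id : N → N)
  let K : Submodule A (N →₀ A) := LinearMap.ker π
  have hπ : Function.Surjective π := Finsupp.linearCombination_id_surjective A N
  let i : ModuleCat.of A K ⟶ ModuleCat.of A (N →₀ A) := ModuleCat.ofHom K.subtype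
  have hex : Function.Exact i.hom π :=
    LinearMap.exact_iff.mpr (Submodule.range_subtype _).symm
  obtain ⟨z', rfl⟩ := LinearMap.lTensor_surjective X hπ z
  rw [← LinearMap.comp_apply, LinearMap.rTensor_comp_lTensor, ← LinearMap.lTensor_comp_rTensor,
    LinearMap.comp_apply] at hz
  obtain ⟨y, hy⟩ := ((lTensor_exact Y hex hπ) _).mp hz
  have h1 : g.rTensor _ y = 0 := by
    refine Module.Flat.lTensor_preserves_injective_linearMap i.hom
      (Submodule.injective_subtype _) ?_
    rw [map_zero, ← LinearMap.comp_apply, LinearMap.lTensor_comp_rTensor,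
      ← LinearMap.rTensor_comp_lTensor, LinearMap.comp_apply, hy, ← LinearMap.comp_apply,
      ← LinearMap.rTensor_comp, hfg.linearMap_comp_eq_zero, LinearMap.rTensor_zero]
    rfl
  obtain ⟨w, rfl⟩ := ((rTensor_exact _ hfg hg) _).mp h1
  rw [← LinearMap.comp_apply, LinearMap.lTensor_comp_rTensor, ← LinearMap.rTensor_comp_lTensor,
    LinearMap.comp_apply] at hy
  have h2 := Module.Flat.rTensor_preserves_injective_linearMap (M := N →₀ A) f hf hy
  rw [← h2, ← LinearMap.comp_apply, ← LinearMap.lTensor_comp, hex.linearMap_comp_eq_zero,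
    LinearMap.lTensor_zero]
  rfl

theorem flat_middle [Module.Flat A X] [Module.Flat A R] (hf : Function.Injective f)
    (hg : Function.Surjective g) (hfg : Function.Exact f g) : Module.Flat A Y := by
  refine Module.Flat.iff_lTensor_preserves_injective_linearMap.mpr fun N M _ _ _ _ i hi => ?_
  refine (injective_iff_map_eq_zero _).mpr fun z hz => ?_
  have h1 : g.rTensor N z = 0 := by
    refine Module.Flat.lTensor_preserves_injective_linearMap i hi ?_
    rw [map_zero, ← LinearMap.comp_apply, LinearMap.lTensor_comp_rTensor,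
      ← LinearMap.rTensor_comp_lTensor, LinearMap.comp_apply, hz, map_zero]
  obtain ⟨x, rfl⟩ := ((rTensor_exact N hfg hg) _).mp h1
  rw [← LinearMap.comp_apply, LinearMap.lTensor_comp_rTensor, ← LinearMap.rTensor_comp_lTensor,
    LinearMap.comp_apply] at hz
  rw [(injective_iff_map_eq_zero _).mp (Module.Flat.lTensor_preserves_injective_linearMap i hi) x
    ((injective_iff_map_eq_zero _).mp (rTensor_injective_of_flat_quot hf hg hfg M) _ hz), map_zero]

theorem flat_left [Module.Flat A Y] [Module.Flat A R] (hf : Function.Injective f)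
    (hg : Function.Surjective g) (hfg : Function.Exact f g) : Module.Flat A X := by
  refine Module.Flat.iff_lTensor_preserves_injective_linearMap.mpr fun N M _ _ _ _ i hi => ?_
  refine (injective_iff_map_eq_zero _).mpr fun x hx => ?_
  refine (injective_iff_map_eq_zero _).mp (rTensor_injective_of_flat_quot hf hg hfg N) _ ?_
  refine (injective_iff_map_eq_zero _).mp (Module.Flat.lTensor_preserves_injective_linearMap i hi) _ ?_
  rw [← LinearMap.comp_apply, LinearMap.lTensor_comp_rTensor, ← LinearMap.rTensor_comp_lTensor,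
    LinearMap.comp_apply, hx, map_zero]

end Ext

section Cx

variable {ι : Type} {c : ComplexShape ι} (P : HomologicalComplex (ModuleCat.{u} A) c)

/-- The map `Coker_{ij} → P_k`. -/
noncomputable def qd (i j k : ι) : Coker P i j →ₗ[A] P.X k :=
  Submodule.liftQ _ (dd P j k) (by rintro _ ⟨x, rfl⟩; exact dd_dd P i j k x)

/-- `Coker_{ij} → im d_{jk}`. -/
noncomputable def qr (i j k : ι) : Coker P i j →ₗ[A] LinearMap.range (dd P j k) :=
  (qd P i j k).codRestrict _ fun z => by
    obtain ⟨x, rfl⟩ := Submodule.mkQ_surjective _ z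
    exact ⟨x, rfl⟩

theorem qr_surjective (i j k : ι) : Function.Surjective (qr P i j k) := by
  rintro ⟨_, x, rfl⟩
  exact ⟨(LinearMap.range (dd P i j)).mkQ x, rfl⟩

/-- `H_j → Coker_{ij}`, injective and exact. -/
theorem exists_homology_toCoker {i j k : ι} (hi : c.prev j = i) (hk : c.next j = k) :
    ∃ f : ((CohIII.TFun P j).obj (ModuleCat.of A A) : Type u) →ₗ[A] Coker P i j,
      Function.Injective f ∧ Function.Exact f (qr P i j k) := by
  subst hk
  let ψ : Cyc P j (ModuleCat.of A A) →ₗ[A] Coker P i j :=
    (LinearMap.range (dd P i j)).mkQ ∘ₗ (TensorProduct.rid A (P.X j)).toLinearMap ∘ₗ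
      (Cyc P j (ModuleCat.of A A)).subtype
  have hrid : ∀ (i' : ι) (j' : ι) (z : P.X i' ⊗[A] A), TensorProduct.rid A (P.X j')
      ((dd P i' j').rTensor A z) = dd P i' j' (TensorProduct.rid A (P.X i') z) := fun i' j' z => by
    induction z using TensorProduct.induction_on with
    | zero => simp
    | tmul x a => simp
    | add a b ha hb => simp only [map_add, ha, hb]
  have hker : ∀ x, cls P j (ModuleCat.of A A) x = 0 ↔ ψ x = 0 := fun x => by
    rw [cls_eq_zero_iff P hi]
    show _ ↔ Submodule.Quotient.mk (TensorProduct.rid A (P.X j) x.1) = 0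
    rw [Submodule.Quotient.mk_eq_zero]
    constructor
    · rintro ⟨y, hy⟩
      exact ⟨_, (hrid i j y).symm.trans (congrArg _ hy)⟩
    · rintro ⟨y, hy⟩
      refine ⟨(TensorProduct.rid A (P.X i)).symm y, (TensorProduct.rid A (P.X j)).injective ?_⟩
      rw [hrid, LinearEquiv.apply_symm_apply]
      exact hy
  let e := (cls P j (ModuleCat.of A A)).quotKerEquivOfSurjective (cls_surjective P j _)
  let f := (Submodule.liftQ _ ψ (fun x hx => (hker x).mp hx)).comp e.symm.toLinearMap
  have hf : ∀ x, f (cls P j (ModuleCat.of A A) x) = ψ x := fun x => by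
    simp only [f, LinearMap.comp_apply, LinearEquiv.coe_coe]
    rw [show cls P j (ModuleCat.of A A) x = e (Submodule.Quotient.mk x) from rfl,
      LinearEquiv.symm_apply_apply]
    rfl
  refine ⟨f, (injective_iff_map_eq_zero _).mpr fun a ha => ?_, fun q => ⟨fun hq => ?_, ?_⟩⟩
  · obtain ⟨x, rfl⟩ := cls_surjective P j _ a
    rw [hf] at ha
    exact (hker x).mpr ha
  · obtain ⟨y, rfl⟩ := Submodule.mkQ_surjective _ q
    have hy : dd P j (c.next j) y = 0 := congrArg Subtype.val hq
    have hc : (TensorProduct.rid A (P.X j)).symm y ∈ Cyc P j (ModuleCat.of A A) := by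
      refine (TensorProduct.rid A (P.X (c.next j))).injective ?_
      rw [hrid, LinearEquiv.apply_symm_apply, hy, map_zero]
    refine ⟨cls P j _ ⟨_, hc⟩, (hf _).trans ?_⟩
    simp [ψ]
  · rintro ⟨a, rfl⟩
    obtain ⟨x, rfl⟩ := cls_surjective P j _ a
    refine (congrArg _ (hf x)).trans (Subtype.ext ?_)
    refine (hrid j (c.next j) x.1).symm.trans ((congrArg _ x.2).trans (map_zero _))

/-- If the image of `d_{jk}` is flat then the cokernel is flat iff the homology is. -/
theorem flat_coker_iff {i j k : ι} (hi : c.prev j = i) (hk : c.next j = k)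
    [Module.Flat A (LinearMap.range (dd P j k))] :
    Module.Flat A (Coker P i j) ↔ Module.Flat A ((CohIII.TFun P j).obj (ModuleCat.of A A)) := by
  obtain ⟨f, hf, hex⟩ := exists_homology_toCoker P hi hk
  exact ⟨fun _ => flat_left hf (qr_surjective P i j k) hex,
    fun _ => flat_middle hf (qr_surjective P i j k) hex⟩

end Cx

end Groth.L01.FlatCx
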