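import Groth.Agent.L28.TorFacts
import Groth.Prelude.Def_DRing2

/-!
`Tor_1` and `Tor_2` of a cokernel of a map of flat modules.
-/

set_option autoImplicit false
universe u

open CategoryTheory CategoryTheory.Limits MonoidalCategory
open scoped TensorProduct
open Groth.L28

namespace Groth.L01.FlatCx.TwoTerm

variable {A : Type u} [CommRing A] {P₁ P₀ : Type u} [AddCommGroup P₁] [Module A P₁] [AddCommGroup P₀]
  [Module A P₀] (d : P₁ →ₗ[A] P₀) (R : ChainComplex (ModuleCat.{u} A) ℕ)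
  (ε : R.X 0 ⟶ ModuleCat.of A (LinearMap.ker d))

/-- The terms of the spliced resolution. -/
noncomputable def spX : ℕ → ModuleCat.{u} A
  | 0 => ModuleCat.of A P₀
  | 1 => ModuleCat.of A P₁
  | n + 2 => R.X n

/-- The differentials of the spliced resolution. -/
noncomputable def spd : ∀ n, spX (P₁ := P₁) (P₀ := P₀) R (n + 1) ⟶ spX (P₁ := P₁) (P₀ := P₀) R n
  | 0 => ModuleCat.ofHom d
  | 1 => ε ≫ ModuleCat.ofHom (LinearMap.ker d).subtype
  | n + 2 => R.d (n + 1) n

variable {d R ε} (hR : Balance.IsRes R ε)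

include hR in
theorem spd_spd (n : ℕ) : spd d R ε (n + 1) ≫ spd d R ε n = 0 := by
  match n with
  | 0 =>
    ext x
    exact (ε.hom x).2
  | 1 =>
    ext x
    show (LinearMap.ker d).subtype (ε.hom ((R.d 1 0).hom x)) = 0
    rw [(hR.exact₀ _).mpr ⟨x, rfl⟩, map_zero]
  | n + 2 => exact R.d_comp_d _ _ _

/-- The spliced resolution. -/
noncomputable def sp : ChainComplex (ModuleCat.{u} A) ℕ :=
  ChainComplex.of (spX (P₁ := P₁) (P₀ := P₀) R) (spd d R ε) (spd_spd hR)

theorem sp_d (n : ℕ) : (sp hR).d (n + 1) n = spd d R ε n := by simp [sp]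

variable [Module.Flat A P₁] [Module.Flat A P₀]

theorem sp_isRes : Balance.IsRes (sp hR) (N := ModuleCat.of A (P₀ ⧸ LinearMap.range d))
    (ModuleCat.ofHom (LinearMap.range d).mkQ) where
  surj := Submodule.mkQ_surjective _
  exact₀ := by
    rw [sp_d]
    exact LinearMap.exact_iff.mpr (Submodule.ker_mkQ _)
  exact n := by
    rw [sp_d, sp_d]
    match n with
    | 0 =>
      intro x
      refine ⟨fun hx => ?_, ?_⟩
      · obtain ⟨y, hy⟩ := hR.surj ⟨x, hx⟩
        exact ⟨y, congrArg Subtype.val hy⟩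
      · rintro ⟨y, rfl⟩
        exact (ε.hom y).2
    | 1 =>
      intro x
      refine ⟨fun hx => (hR.exact₀ x).mp (Subtype.ext hx), ?_⟩
      rintro ⟨y, rfl⟩
      show (LinearMap.ker d).subtype (ε.hom ((R.d 1 0).hom y)) = 0
      rw [(hR.exact₀ _).mpr ⟨y, rfl⟩, map_zero]
    | n + 2 => exact hR.exact n
  flat n := by
    match n with
    | 0 => exact inferInstanceAs (Module.Flat A P₀)
    | 1 => exact inferInstanceAs (Module.Flat A P₁)
    | n + 2 => exact hR.flat n

/-- Homology from cycles. -/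
theorem nonempty_homology_equiv {ι : Type} {c : ComplexShape ι}
    (K : HomologicalComplex (ModuleCat.{u} A) c) {i j k : ι} (hi : c.prev j = i) (hk : c.next j = k)
    {W : Type u} [AddCommGroup W] [Module A W] (φ : LinearMap.ker (K.d j k).hom →ₗ[A] W)
    (hs : Function.Surjective φ) (hz : ∀ x, φ x = 0 ↔ ∃ y, (K.d i j).hom y = x.1) :
    Nonempty (W ≃ₗ[A] (K.homology j : Type u)) := by
  let θ : K.cycles j →ₗ[A] LinearMap.ker (K.d j k).hom :=
    LinearMap.codRestrict _ (K.iCycles j).hom fun z => HomElt.d_iCycles j k z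
  have hθ : Function.Surjective θ := fun x => by
    obtain ⟨z, hz⟩ := HomElt.exists_cycle hk x.1 x.2
    exact ⟨z, Subtype.ext hz⟩
  have hker : LinearMap.ker (K.homologyπ j).hom = LinearMap.ker (φ ∘ₗ θ) := by
    ext z
    exact (HomElt.π_eq_zero_iff hi z).trans (hz (θ z)).symm
  exact ⟨(((K.homologyπ j).hom.quotKerEquivOfSurjective (HomElt.homologyπ_surjective K j)).symm.trans
    ((Submodule.quotEquivOfEq _ _ hker).trans
      ((φ ∘ₗ θ).quotKerEquivOfSurjective (hs.comp hθ)))).symm⟩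

include hR in
theorem tor_two_term_aux (M : Type u) [AddCommGroup M] [Module A M] :
    Nonempty (LinearMap.ker ((LinearMap.ker d).subtype.rTensor M) ≃ₗ[A]
      DRing.Tor A 2 (P₀ ⧸ LinearMap.range d) M) ∧
    Nonempty ((↥(LinearMap.ker (d.rTensor M)) ⧸ Submodule.comap (LinearMap.ker (d.rTensor M)).subtype
      (LinearMap.range ((LinearMap.ker d).subtype.rTensor M))) ≃ₗ[A]
      DRing.Tor A 1 (P₀ ⧸ LinearMap.range d) M) := by
  let K := LinearMap.ker d
  obtain ⟨e₁⟩ := TorFacts.nonempty_iso_left (N := ModuleCat.of A M) (sp hR) _ (sp_isRes hR) 1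
  obtain ⟨e₂⟩ := TorFacts.nonempty_iso_left (N := ModuleCat.of A M) (sp hR) _ (sp_isRes hR) 2
  let C := ((tensorRight (ModuleCat.of A M)).mapHomologicalComplex (ComplexShape.down ℕ)).obj (sp hR)
  have h10 : ∀ x : P₁ ⊗[A] M, (C.d 1 0).hom x = d.rTensor M x := fun x => by
    show ((tensorRight (ModuleCat.of A M)).map ((sp hR).d (0 + 1) 0)).hom x = _
    rw [sp_d]
    rfl
  have h21 : ∀ x : R.X 0 ⊗[A] M, (C.d 2 1).hom x = (K.subtype ∘ₗ ε.hom).rTensor M x := fun x => by
    show ((tensorRight (ModuleCat.of A M)).map ((sp hR).d (1 + 1) 1)).hom x = _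
    rw [sp_d]
    rfl
  have h32 : ∀ x : R.X 1 ⊗[A] M, (C.d 3 2).hom x = (R.d 1 0).hom.rTensor M x := fun x => by
    show ((tensorRight (ModuleCat.of A M)).map ((sp hR).d (2 + 1) 2)).hom x = _
    rw [sp_d]
    rfl
  have hp : ∀ i, (ComplexShape.down ℕ).prev i = i + 1 := fun i => (ComplexShape.down ℕ).prev_eq' rfl
  have hn : ∀ i, (ComplexShape.down ℕ).next (i + 1) = i := fun i => (ComplexShape.down ℕ).next_eq' rfl
  have hεs : Function.Surjective (ε.hom.rTensor M) := LinearMap.rTensor_surjective M hR.surj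
  constructor
  · have hS : ∀ x : LinearMap.ker (C.d 2 1).hom,
        ε.hom.rTensor M x.1 ∈ LinearMap.ker (K.subtype.rTensor M) := fun x =>
      (LinearMap.rTensor_comp_apply M K.subtype ε.hom x.1).symm.trans ((h21 x.1).symm.trans x.2)
    obtain ⟨f⟩ := nonempty_homology_equiv C (hp 2) (hn 1)
      ((ε.hom.rTensor M ∘ₗ (LinearMap.ker (C.d 2 1).hom).subtype).codRestrict _ hS)
      (fun s => by
        obtain ⟨x, hx⟩ := hεs s.1
        exact ⟨⟨x, (h21 x).trans ((LinearMap.rTensor_comp_apply M K.subtype ε.hom x).trans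
          ((congrArg (K.subtype.rTensor M) hx).trans s.2))⟩, Subtype.ext hx⟩)
      (fun x => by
        refine Subtype.ext_iff.trans (((rTensor_exact M hR.exact₀ hR.surj) x.1).trans ?_)
        exact ⟨fun ⟨y, hy⟩ => ⟨y, (h32 y).trans hy⟩, fun ⟨y, hy⟩ => ⟨y, (h32 y).symm.trans hy⟩⟩)
    exact ⟨f.trans e₂.toLinearEquiv.symm⟩
  · have hS : ∀ x : LinearMap.ker (C.d 1 0).hom, x.1 ∈ LinearMap.ker (d.rTensor M) := fun x =>
      (h10 x.1).symm.trans x.2
    obtain ⟨f⟩ := nonempty_homology_equiv C (hp 1) (hn 0)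
      ((Submodule.comap (LinearMap.ker (d.rTensor M)).subtype
        (LinearMap.range (K.subtype.rTensor M))).mkQ ∘ₗ
          (LinearMap.ker (C.d 1 0).hom).subtype.codRestrict _ hS)
      ((Submodule.mkQ_surjective _).comp fun s => ⟨⟨s.1, (h10 s.1).trans s.2⟩, Subtype.ext rfl⟩)
      (fun x => by
        refine (Submodule.Quotient.mk_eq_zero _).trans ⟨?_, ?_⟩
        · rintro ⟨y, hy⟩
          obtain ⟨y, rfl⟩ := hεs y
          exact ⟨y, ((h21 y).trans (LinearMap.rTensor_comp_apply M _ _ y)).trans hy⟩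
        · rintro ⟨y, hy⟩
          exact ⟨ε.hom.rTensor M y,
            ((LinearMap.rTensor_comp_apply M _ _ y).symm.trans (h21 y).symm).trans hy⟩)
    exact ⟨f.trans e₁.toLinearEquiv.symm⟩

theorem tor_two_term (d : P₁ →ₗ[A] P₀) (M : Type u) [AddCommGroup M] [Module A M] :
    Nonempty (LinearMap.ker ((LinearMap.ker d).subtype.rTensor M) ≃ₗ[A]
      DRing.Tor A 2 (P₀ ⧸ LinearMap.range d) M) ∧
    Nonempty ((↥(LinearMap.ker (d.rTensor M)) ⧸ Submodule.comap (LinearMap.ker (d.rTensor M)).subtype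
      (LinearMap.range ((LinearMap.ker d).subtype.rTensor M))) ≃ₗ[A]
      DRing.Tor A 1 (P₀ ⧸ LinearMap.range d) M) :=
  let Q := projectiveResolution (ModuleCat.of A (LinearMap.ker d))
  tor_two_term_aux (R := Q.complex) (ε := Q.π.f 0) (Balance.isRes_projectiveResolution Q) M

end Groth.L01.FlatCx.TwoTerm
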